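import Cfsg.Agent.Lib.GLTwoThreeAmalgam.Marking
import Cfsg.Agent.Lib.GLTwoThreeAmalgam.Cert1
import Cfsg.Agent.Lib.GLTwoThreeAmalgam.Cert2
import Cfsg.Agent.Lib.GLTwoThreeAmalgam.Cert3
import Cfsg.Agent.Lib.GLTwoThreeAmalgam.Cert4
import Cfsg.Agent.Lib.GLTwoThreeAmalgam.Cert5
import Cfsg.Agent.Lib.GLTwoThreeAmalgam.Cert6
import Cfsg.Agent.Lib.GLTwoThreeAmalgam.Cert7
import Cfsg.Agent.Lib.GLTwoThreeAmalgam.Cert8

/-! The case distinction over the available relations. -/

set_option autoImplicit false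
set_option maxRecDepth 100000

namespace Cfsg.Agent.Lib.GLTwoThreeAmalgam

open Cfsg.Agent.Lib.InvCentralizer Cfsg.Agent.Lib.CosetTable

universe u

variable {G : Type u} [Group G] [Finite G] {t : G}

namespace Hyp

variable (H : Hyp t)

theorem rels_of_eq {rels ex : List (List ℕ)} (e : rels = baseRels ++ ex)
    (h : ∀ w ∈ ex, eval H.mark w = 1) : ∀ w ∈ rels, eval H.mark w = 1 := by
  intro w hw
  rw [e, List.mem_append] at hw
  exact hw.elim (H.eval_baseRels w) (h w)

theorem exists_index {l : List (List ℕ)} (h : ∃ r ∈ l, eval H.mark r = 1) :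
    ∃ i, i < l.length ∧ eval H.mark (l.getD i []) = 1 := by
  obtain ⟨r, hr, he⟩ := h
  obtain ⟨i, hi, rfl⟩ := List.getElem_of_mem hr
  exact ⟨i, hi, by rw [List.getD_eq_getElem _ _ hi]; exact he⟩

/-- The word of the involution used at stage 1. -/
def stage1 : List ℕ := [3, 2, 1, 0, 2, 3, 2, 3, 2, 0, 1, 2, 3]

theorem alt1 : ∃ i, i < (wordAlt stage1).length ∧ eval H.mark ((wordAlt stage1).getD i []) = 1 := by
  refine H.exists_index (H.alt_word ?_)
  rw [show stage1 = [3, 2, 1, 0, 2, 3] ++ [2] ++ [3, 2, 1, 0, 2, 3].reverse by decide]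
  refine H.orderOf_eval_palindrome ?_
  rw [H.mark_lt (by norm_num)]
  exact H.orderOf_lift (by decide +kernel) (by decide +kernel)

/-- The word of the involution used at stage 2. -/
def stage2 : List ℕ := [0, 3, 2, 1, 0, 1, 3, 1, 0, 1, 2, 3, 0]

theorem alt2 : ∃ i, i < (wordAlt stage2).length ∧ eval H.mark ((wordAlt stage2).getD i []) = 1 := by
  refine H.exists_index (H.alt_word ?_)
  rw [show stage2 = [0, 3, 2, 1, 0, 1] ++ [3] ++ [0, 3, 2, 1, 0, 1].reverse by decide]
  refine H.orderOf_eval_palindrome ?_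
  rw [show H.mark 3 = H.d from if_pos rfl]
  exact H.exists_d.choose_spec.1

/-- The word of the involution used at stage 3. -/
def stage3 : List ℕ := [0, 3, 2, 3, 0, 3, 0, 3, 2, 3, 0]

theorem alt3 : ∃ i, i < (wordAlt stage3).length ∧ eval H.mark ((wordAlt stage3).getD i []) = 1 := by
  refine H.exists_index (H.alt_word ?_)
  rw [show stage3 = [0, 3, 2, 3, 0] ++ [3] ++ [0, 3, 2, 3, 0].reverse by decide]
  refine H.orderOf_eval_palindrome ?_
  rw [show H.mark 3 = H.d from if_pos rfl]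
  exact H.exists_d.choose_spec.1

set_option maxHeartbeats 4000000 in
include H in
/-- Only three systems of relations survive. -/
theorem rels_cases :
    (∀ w ∈ certB11.rels, eval H.mark w = 1) ∨ (∀ w ∈ certB17.rels, eval H.mark w = 1) ∨
      (∀ w ∈ certC15.rels, eval H.mark w = 1) := by
  have hno := H.mark_three_not_mem
  obtain ⟨a, ha, ea⟩ := H.exists_index H.alt_cd
  simp only [cdAlt, List.length_cons, List.length_nil] at ha
  interval_cases a
  · exact absurd (memA (H.rels_of_eq (ex := [cdAlt.getD 0 []]) (by decide +kernel) (by simpa using ea))) hno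
  · obtain ⟨i, hi, ei⟩ := H.alt1
    replace hi : i < 29 := hi
    interval_cases i
    · obtain ⟨j, hj, ej⟩ := H.alt2
      replace hj : j < 29 := hj
      interval_cases j
      · exact absurd (memB0_0 (H.rels_of_eq (ex := [cdAlt.getD 1 [], (wordAlt stage1).getD 0 [], (wordAlt stage2).getD 0 []]) (by decide +kernel) (by simpa using (show eval H.mark (cdAlt.getD 1 []) = 1 ∧ eval H.mark ((wordAlt stage1).getD 0 []) = 1 ∧ eval H.mark ((wordAlt stage2).getD 0 []) = 1 from ⟨ea, ei, ej⟩)))) hno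
      · exact absurd (memB0_1 (H.rels_of_eq (ex := [cdAlt.getD 1 [], (wordAlt stage1).getD 0 [], (wordAlt stage2).getD 1 []]) (by decide +kernel) (by simpa using (show eval H.mark (cdAlt.getD 1 []) = 1 ∧ eval H.mark ((wordAlt stage1).getD 0 []) = 1 ∧ eval H.mark ((wordAlt stage2).getD 1 []) = 1 from ⟨ea, ei, ej⟩)))) hno
      · exact absurd (memB0_2 (H.rels_of_eq (ex := [cdAlt.getD 1 [], (wordAlt stage1).getD 0 [], (wordAlt stage2).getD 2 []]) (by decide +kernel) (by simpa using (show eval H.mark (cdAlt.getD 1 []) = 1 ∧ eval H.mark ((wordAlt stage1).getD 0 []) = 1 ∧ eval H.mark ((wordAlt stage2).getD 2 []) = 1 from ⟨ea, ei, ej⟩)))) hno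
      · exact absurd (memB0_3 (H.rels_of_eq (ex := [cdAlt.getD 1 [], (wordAlt stage1).getD 0 [], (wordAlt stage2).getD 3 []]) (by decide +kernel) (by simpa using (show eval H.mark (cdAlt.getD 1 []) = 1 ∧ eval H.mark ((wordAlt stage1).getD 0 []) = 1 ∧ eval H.mark ((wordAlt stage2).getD 3 []) = 1 from ⟨ea, ei, ej⟩)))) hno
      · exact absurd (memB0_4 (H.rels_of_eq (ex := [cdAlt.getD 1 [], (wordAlt stage1).getD 0 [], (wordAlt stage2).getD 4 []]) (by decide +kernel) (by simpa using (show eval H.mark (cdAlt.getD 1 []) = 1 ∧ eval H.mark ((wordAlt stage1).getD 0 []) = 1 ∧ eval H.mark ((wordAlt stage2).getD 4 []) = 1 from ⟨ea, ei, ej⟩)))) hno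
      · exact absurd (memB0_5 (H.rels_of_eq (ex := [cdAlt.getD 1 [], (wordAlt stage1).getD 0 [], (wordAlt stage2).getD 5 []]) (by decide +kernel) (by simpa using (show eval H.mark (cdAlt.getD 1 []) = 1 ∧ eval H.mark ((wordAlt stage1).getD 0 []) = 1 ∧ eval H.mark ((wordAlt stage2).getD 5 []) = 1 from ⟨ea, ei, ej⟩)))) hno
      · exact absurd (memB0_6 (H.rels_of_eq (ex := [cdAlt.getD 1 [], (wordAlt stage1).getD 0 [], (wordAlt stage2).getD 6 []]) (by decide +kernel) (by simpa using (show eval H.mark (cdAlt.getD 1 []) = 1 ∧ eval H.mark ((wordAlt stage1).getD 0 []) = 1 ∧ eval H.mark ((wordAlt stage2).getD 6 []) = 1 from ⟨ea, ei, ej⟩)))) hno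
      · exact absurd (memB0_7 (H.rels_of_eq (ex := [cdAlt.getD 1 [], (wordAlt stage1).getD 0 [], (wordAlt stage2).getD 7 []]) (by decide +kernel) (by simpa using (show eval H.mark (cdAlt.getD 1 []) = 1 ∧ eval H.mark ((wordAlt stage1).getD 0 []) = 1 ∧ eval H.mark ((wordAlt stage2).getD 7 []) = 1 from ⟨ea, ei, ej⟩)))) hno
      · exact absurd (memB0_8 (H.rels_of_eq (ex := [cdAlt.getD 1 [], (wordAlt stage1).getD 0 [], (wordAlt stage2).getD 8 []]) (by decide +kernel) (by simpa using (show eval H.mark (cdAlt.getD 1 []) = 1 ∧ eval H.mark ((wordAlt stage1).getD 0 []) = 1 ∧ eval H.mark ((wordAlt stage2).getD 8 []) = 1 from ⟨ea, ei, ej⟩)))) hno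
      · exact absurd (memB0_9 (H.rels_of_eq (ex := [cdAlt.getD 1 [], (wordAlt stage1).getD 0 [], (wordAlt stage2).getD 9 []]) (by decide +kernel) (by simpa using (show eval H.mark (cdAlt.getD 1 []) = 1 ∧ eval H.mark ((wordAlt stage1).getD 0 []) = 1 ∧ eval H.mark ((wordAlt stage2).getD 9 []) = 1 from ⟨ea, ei, ej⟩)))) hno
      · exact absurd (memB0_10 (H.rels_of_eq (ex := [cdAlt.getD 1 [], (wordAlt stage1).getD 0 [], (wordAlt stage2).getD 10 []]) (by decide +kernel) (by simpa using (show eval H.mark (cdAlt.getD 1 []) = 1 ∧ eval H.mark ((wordAlt stage1).getD 0 []) = 1 ∧ eval H.mark ((wordAlt stage2).getD 10 []) = 1 from ⟨ea, ei, ej⟩)))) hno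
      · exact absurd (memB0_11 (H.rels_of_eq (ex := [cdAlt.getD 1 [], (wordAlt stage1).getD 0 [], (wordAlt stage2).getD 11 []]) (by decide +kernel) (by simpa using (show eval H.mark (cdAlt.getD 1 []) = 1 ∧ eval H.mark ((wordAlt stage1).getD 0 []) = 1 ∧ eval H.mark ((wordAlt stage2).getD 11 []) = 1 from ⟨ea, ei, ej⟩)))) hno
      · exact absurd (memB0_12 (H.rels_of_eq (ex := [cdAlt.getD 1 [], (wordAlt stage1).getD 0 [], (wordAlt stage2).getD 12 []]) (by decide +kernel) (by simpa using (show eval H.mark (cdAlt.getD 1 []) = 1 ∧ eval H.mark ((wordAlt stage1).getD 0 []) = 1 ∧ eval H.mark ((wordAlt stage2).getD 12 []) = 1 from ⟨ea, ei, ej⟩)))) hno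
      · exact absurd (memB0_13 (H.rels_of_eq (ex := [cdAlt.getD 1 [], (wordAlt stage1).getD 0 [], (wordAlt stage2).getD 13 []]) (by decide +kernel) (by simpa using (show eval H.mark (cdAlt.getD 1 []) = 1 ∧ eval H.mark ((wordAlt stage1).getD 0 []) = 1 ∧ eval H.mark ((wordAlt stage2).getD 13 []) = 1 from ⟨ea, ei, ej⟩)))) hno
      · exact absurd (memB0_14 (H.rels_of_eq (ex := [cdAlt.getD 1 [], (wordAlt stage1).getD 0 [], (wordAlt stage2).getD 14 []]) (by decide +kernel) (by simpa using (show eval H.mark (cdAlt.getD 1 []) = 1 ∧ eval H.mark ((wordAlt stage1).getD 0 []) = 1 ∧ eval H.mark ((wordAlt stage2).getD 14 []) = 1 from ⟨ea, ei, ej⟩)))) hno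
      · exact absurd (memB0_15 (H.rels_of_eq (ex := [cdAlt.getD 1 [], (wordAlt stage1).getD 0 [], (wordAlt stage2).getD 15 []]) (by decide +kernel) (by simpa using (show eval H.mark (cdAlt.getD 1 []) = 1 ∧ eval H.mark ((wordAlt stage1).getD 0 []) = 1 ∧ eval H.mark ((wordAlt stage2).getD 15 []) = 1 from ⟨ea, ei, ej⟩)))) hno
      · exact absurd (memB0_16 (H.rels_of_eq (ex := [cdAlt.getD 1 [], (wordAlt stage1).getD 0 [], (wordAlt stage2).getD 16 []]) (by decide +kernel) (by simpa using (show eval H.mark (cdAlt.getD 1 []) = 1 ∧ eval H.mark ((wordAlt stage1).getD 0 []) = 1 ∧ eval H.mark ((wordAlt stage2).getD 16 []) = 1 from ⟨ea, ei, ej⟩)))) hno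
      · exact absurd (memB0_17 (H.rels_of_eq (ex := [cdAlt.getD 1 [], (wordAlt stage1).getD 0 [], (wordAlt stage2).getD 17 []]) (by decide +kernel) (by simpa using (show eval H.mark (cdAlt.getD 1 []) = 1 ∧ eval H.mark ((wordAlt stage1).getD 0 []) = 1 ∧ eval H.mark ((wordAlt stage2).getD 17 []) = 1 from ⟨ea, ei, ej⟩)))) hno
      · exact absurd (memB0_18 (H.rels_of_eq (ex := [cdAlt.getD 1 [], (wordAlt stage1).getD 0 [], (wordAlt stage2).getD 18 []]) (by decide +kernel) (by simpa using (show eval H.mark (cdAlt.getD 1 []) = 1 ∧ eval H.mark ((wordAlt stage1).getD 0 []) = 1 ∧ eval H.mark ((wordAlt stage2).getD 18 []) = 1 from ⟨ea, ei, ej⟩)))) hno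
      · exact absurd (memB0_19 (H.rels_of_eq (ex := [cdAlt.getD 1 [], (wordAlt stage1).getD 0 [], (wordAlt stage2).getD 19 []]) (by decide +kernel) (by simpa using (show eval H.mark (cdAlt.getD 1 []) = 1 ∧ eval H.mark ((wordAlt stage1).getD 0 []) = 1 ∧ eval H.mark ((wordAlt stage2).getD 19 []) = 1 from ⟨ea, ei, ej⟩)))) hno
      · exact absurd (memB0_20 (H.rels_of_eq (ex := [cdAlt.getD 1 [], (wordAlt stage1).getD 0 [], (wordAlt stage2).getD 20 []]) (by decide +kernel) (by simpa using (show eval H.mark (cdAlt.getD 1 []) = 1 ∧ eval H.mark ((wordAlt stage1).getD 0 []) = 1 ∧ eval H.mark ((wordAlt stage2).getD 20 []) = 1 from ⟨ea, ei, ej⟩)))) hno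
      · exact absurd (memB0_21 (H.rels_of_eq (ex := [cdAlt.getD 1 [], (wordAlt stage1).getD 0 [], (wordAlt stage2).getD 21 []]) (by decide +kernel) (by simpa using (show eval H.mark (cdAlt.getD 1 []) = 1 ∧ eval H.mark ((wordAlt stage1).getD 0 []) = 1 ∧ eval H.mark ((wordAlt stage2).getD 21 []) = 1 from ⟨ea, ei, ej⟩)))) hno
      · exact absurd (memB0_22 (H.rels_of_eq (ex := [cdAlt.getD 1 [], (wordAlt stage1).getD 0 [], (wordAlt stage2).getD 22 []]) (by decide +kernel) (by simpa using (show eval H.mark (cdAlt.getD 1 []) = 1 ∧ eval H.mark ((wordAlt stage1).getD 0 []) = 1 ∧ eval H.mark ((wordAlt stage2).getD 22 []) = 1 from ⟨ea, ei, ej⟩)))) hno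
      · exact absurd (memB0_23 (H.rels_of_eq (ex := [cdAlt.getD 1 [], (wordAlt stage1).getD 0 [], (wordAlt stage2).getD 23 []]) (by decide +kernel) (by simpa using (show eval H.mark (cdAlt.getD 1 []) = 1 ∧ eval H.mark ((wordAlt stage1).getD 0 []) = 1 ∧ eval H.mark ((wordAlt stage2).getD 23 []) = 1 from ⟨ea, ei, ej⟩)))) hno
      · exact absurd (memB0_24 (H.rels_of_eq (ex := [cdAlt.getD 1 [], (wordAlt stage1).getD 0 [], (wordAlt stage2).getD 24 []]) (by decide +kernel) (by simpa using (show eval H.mark (cdAlt.getD 1 []) = 1 ∧ eval H.mark ((wordAlt stage1).getD 0 []) = 1 ∧ eval H.mark ((wordAlt stage2).getD 24 []) = 1 from ⟨ea, ei, ej⟩)))) hno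
      · exact absurd (memB0_25 (H.rels_of_eq (ex := [cdAlt.getD 1 [], (wordAlt stage1).getD 0 [], (wordAlt stage2).getD 25 []]) (by decide +kernel) (by simpa using (show eval H.mark (cdAlt.getD 1 []) = 1 ∧ eval H.mark ((wordAlt stage1).getD 0 []) = 1 ∧ eval H.mark ((wordAlt stage2).getD 25 []) = 1 from ⟨ea, ei, ej⟩)))) hno
      · exact absurd (memB0_26 (H.rels_of_eq (ex := [cdAlt.getD 1 [], (wordAlt stage1).getD 0 [], (wordAlt stage2).getD 26 []]) (by decide +kernel) (by simpa using (show eval H.mark (cdAlt.getD 1 []) = 1 ∧ eval H.mark ((wordAlt stage1).getD 0 []) = 1 ∧ eval H.mark ((wordAlt stage2).getD 26 []) = 1 from ⟨ea, ei, ej⟩)))) hno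
      · exact absurd (memB0_27 (H.rels_of_eq (ex := [cdAlt.getD 1 [], (wordAlt stage1).getD 0 [], (wordAlt stage2).getD 27 []]) (by decide +kernel) (by simpa using (show eval H.mark (cdAlt.getD 1 []) = 1 ∧ eval H.mark ((wordAlt stage1).getD 0 []) = 1 ∧ eval H.mark ((wordAlt stage2).getD 27 []) = 1 from ⟨ea, ei, ej⟩)))) hno
      · exact absurd (memB0_28 (H.rels_of_eq (ex := [cdAlt.getD 1 [], (wordAlt stage1).getD 0 [], (wordAlt stage2).getD 28 []]) (by decide +kernel) (by simpa using (show eval H.mark (cdAlt.getD 1 []) = 1 ∧ eval H.mark ((wordAlt stage1).getD 0 []) = 1 ∧ eval H.mark ((wordAlt stage2).getD 28 []) = 1 from ⟨ea, ei, ej⟩)))) hno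
    · exact absurd (memB1 (H.rels_of_eq (ex := [cdAlt.getD 1 [], (wordAlt stage1).getD 1 []]) (by decide +kernel) (by simpa using (show eval H.mark (cdAlt.getD 1 []) = 1 ∧ eval H.mark ((wordAlt stage1).getD 1 []) = 1 from ⟨ea, ei⟩)))) hno
    · exact absurd (memB2 (H.rels_of_eq (ex := [cdAlt.getD 1 [], (wordAlt stage1).getD 2 []]) (by decide +kernel) (by simpa using (show eval H.mark (cdAlt.getD 1 []) = 1 ∧ eval H.mark ((wordAlt stage1).getD 2 []) = 1 from ⟨ea, ei⟩)))) hno
    · exact absurd (memB3 (H.rels_of_eq (ex := [cdAlt.getD 1 [], (wordAlt stage1).getD 3 []]) (by decide +kernel) (by simpa using (show eval H.mark (cdAlt.getD 1 []) = 1 ∧ eval H.mark ((wordAlt stage1).getD 3 []) = 1 from ⟨ea, ei⟩)))) hno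
    · exact absurd (memB4 (H.rels_of_eq (ex := [cdAlt.getD 1 [], (wordAlt stage1).getD 4 []]) (by decide +kernel) (by simpa using (show eval H.mark (cdAlt.getD 1 []) = 1 ∧ eval H.mark ((wordAlt stage1).getD 4 []) = 1 from ⟨ea, ei⟩)))) hno
    · exact absurd (memB5 (H.rels_of_eq (ex := [cdAlt.getD 1 [], (wordAlt stage1).getD 5 []]) (by decide +kernel) (by simpa using (show eval H.mark (cdAlt.getD 1 []) = 1 ∧ eval H.mark ((wordAlt stage1).getD 5 []) = 1 from ⟨ea, ei⟩)))) hno
    · exact absurd (memB6 (H.rels_of_eq (ex := [cdAlt.getD 1 [], (wordAlt stage1).getD 6 []]) (by decide +kernel) (by simpa using (show eval H.mark (cdAlt.getD 1 []) = 1 ∧ eval H.mark ((wordAlt stage1).getD 6 []) = 1 from ⟨ea, ei⟩)))) hno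
    · exact absurd (memB7 (H.rels_of_eq (ex := [cdAlt.getD 1 [], (wordAlt stage1).getD 7 []]) (by decide +kernel) (by simpa using (show eval H.mark (cdAlt.getD 1 []) = 1 ∧ eval H.mark ((wordAlt stage1).getD 7 []) = 1 from ⟨ea, ei⟩)))) hno
    · exact absurd (memB8 (H.rels_of_eq (ex := [cdAlt.getD 1 [], (wordAlt stage1).getD 8 []]) (by decide +kernel) (by simpa using (show eval H.mark (cdAlt.getD 1 []) = 1 ∧ eval H.mark ((wordAlt stage1).getD 8 []) = 1 from ⟨ea, ei⟩)))) hno
    · exact absurd (memB9 (H.rels_of_eq (ex := [cdAlt.getD 1 [], (wordAlt stage1).getD 9 []]) (by decide +kernel) (by simpa using (show eval H.mark (cdAlt.getD 1 []) = 1 ∧ eval H.mark ((wordAlt stage1).getD 9 []) = 1 from ⟨ea, ei⟩)))) hno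
    · exact absurd (memB10 (H.rels_of_eq (ex := [cdAlt.getD 1 [], (wordAlt stage1).getD 10 []]) (by decide +kernel) (by simpa using (show eval H.mark (cdAlt.getD 1 []) = 1 ∧ eval H.mark ((wordAlt stage1).getD 10 []) = 1 from ⟨ea, ei⟩)))) hno
    · exact Or.inl (H.rels_of_eq (ex := [cdAlt.getD 1 [], (wordAlt stage1).getD 11 []]) (by decide +kernel) (by simpa using (show eval H.mark (cdAlt.getD 1 []) = 1 ∧ eval H.mark ((wordAlt stage1).getD 11 []) = 1 from ⟨ea, ei⟩)))
    · exact absurd (memB12 (H.rels_of_eq (ex := [cdAlt.getD 1 [], (wordAlt stage1).getD 12 []]) (by decide +kernel) (by simpa using (show eval H.mark (cdAlt.getD 1 []) = 1 ∧ eval H.mark ((wordAlt stage1).getD 12 []) = 1 from ⟨ea, ei⟩)))) hno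
    · exact absurd (memB13 (H.rels_of_eq (ex := [cdAlt.getD 1 [], (wordAlt stage1).getD 13 []]) (by decide +kernel) (by simpa using (show eval H.mark (cdAlt.getD 1 []) = 1 ∧ eval H.mark ((wordAlt stage1).getD 13 []) = 1 from ⟨ea, ei⟩)))) hno
    · exact absurd (memB14 (H.rels_of_eq (ex := [cdAlt.getD 1 [], (wordAlt stage1).getD 14 []]) (by decide +kernel) (by simpa using (show eval H.mark (cdAlt.getD 1 []) = 1 ∧ eval H.mark ((wordAlt stage1).getD 14 []) = 1 from ⟨ea, ei⟩)))) hno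
    · exact absurd (memB15 (H.rels_of_eq (ex := [cdAlt.getD 1 [], (wordAlt stage1).getD 15 []]) (by decide +kernel) (by simpa using (show eval H.mark (cdAlt.getD 1 []) = 1 ∧ eval H.mark ((wordAlt stage1).getD 15 []) = 1 from ⟨ea, ei⟩)))) hno
    · exact absurd (memB16 (H.rels_of_eq (ex := [cdAlt.getD 1 [], (wordAlt stage1).getD 16 []]) (by decide +kernel) (by simpa using (show eval H.mark (cdAlt.getD 1 []) = 1 ∧ eval H.mark ((wordAlt stage1).getD 16 []) = 1 from ⟨ea, ei⟩)))) hno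
    · exact Or.inr (Or.inl (H.rels_of_eq (ex := [cdAlt.getD 1 [], (wordAlt stage1).getD 17 []]) (by decide +kernel) (by simpa using (show eval H.mark (cdAlt.getD 1 []) = 1 ∧ eval H.mark ((wordAlt stage1).getD 17 []) = 1 from ⟨ea, ei⟩))))
    · exact absurd (memB18 (H.rels_of_eq (ex := [cdAlt.getD 1 [], (wordAlt stage1).getD 18 []]) (by decide +kernel) (by simpa using (show eval H.mark (cdAlt.getD 1 []) = 1 ∧ eval H.mark ((wordAlt stage1).getD 18 []) = 1 from ⟨ea, ei⟩)))) hno
    · exact absurd (memB19 (H.rels_of_eq (ex := [cdAlt.getD 1 [], (wordAlt stage1).getD 19 []]) (by decide +kernel) (by simpa using (show eval H.mark (cdAlt.getD 1 []) = 1 ∧ eval H.mark ((wordAlt stage1).getD 19 []) = 1 from ⟨ea, ei⟩)))) hno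
    · exact absurd (memB20 (H.rels_of_eq (ex := [cdAlt.getD 1 [], (wordAlt stage1).getD 20 []]) (by decide +kernel) (by simpa using (show eval H.mark (cdAlt.getD 1 []) = 1 ∧ eval H.mark ((wordAlt stage1).getD 20 []) = 1 from ⟨ea, ei⟩)))) hno
    · exact absurd (memB21 (H.rels_of_eq (ex := [cdAlt.getD 1 [], (wordAlt stage1).getD 21 []]) (by decide +kernel) (by simpa using (show eval H.mark (cdAlt.getD 1 []) = 1 ∧ eval H.mark ((wordAlt stage1).getD 21 []) = 1 from ⟨ea, ei⟩)))) hno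
    · exact absurd (memB22 (H.rels_of_eq (ex := [cdAlt.getD 1 [], (wordAlt stage1).getD 22 []]) (by decide +kernel) (by simpa using (show eval H.mark (cdAlt.getD 1 []) = 1 ∧ eval H.mark ((wordAlt stage1).getD 22 []) = 1 from ⟨ea, ei⟩)))) hno
    · exact absurd (memB23 (H.rels_of_eq (ex := [cdAlt.getD 1 [], (wordAlt stage1).getD 23 []]) (by decide +kernel) (by simpa using (show eval H.mark (cdAlt.getD 1 []) = 1 ∧ eval H.mark ((wordAlt stage1).getD 23 []) = 1 from ⟨ea, ei⟩)))) hno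
    · exact absurd (memB24 (H.rels_of_eq (ex := [cdAlt.getD 1 [], (wordAlt stage1).getD 24 []]) (by decide +kernel) (by simpa using (show eval H.mark (cdAlt.getD 1 []) = 1 ∧ eval H.mark ((wordAlt stage1).getD 24 []) = 1 from ⟨ea, ei⟩)))) hno
    · exact absurd (memB25 (H.rels_of_eq (ex := [cdAlt.getD 1 [], (wordAlt stage1).getD 25 []]) (by decide +kernel) (by simpa using (show eval H.mark (cdAlt.getD 1 []) = 1 ∧ eval H.mark ((wordAlt stage1).getD 25 []) = 1 from ⟨ea, ei⟩)))) hno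
    · exact absurd (memB26 (H.rels_of_eq (ex := [cdAlt.getD 1 [], (wordAlt stage1).getD 26 []]) (by decide +kernel) (by simpa using (show eval H.mark (cdAlt.getD 1 []) = 1 ∧ eval H.mark ((wordAlt stage1).getD 26 []) = 1 from ⟨ea, ei⟩)))) hno
    · exact absurd (memB27 (H.rels_of_eq (ex := [cdAlt.getD 1 [], (wordAlt stage1).getD 27 []]) (by decide +kernel) (by simpa using (show eval H.mark (cdAlt.getD 1 []) = 1 ∧ eval H.mark ((wordAlt stage1).getD 27 []) = 1 from ⟨ea, ei⟩)))) hno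
    · exact absurd (memB28 (H.rels_of_eq (ex := [cdAlt.getD 1 [], (wordAlt stage1).getD 28 []]) (by decide +kernel) (by simpa using (show eval H.mark (cdAlt.getD 1 []) = 1 ∧ eval H.mark ((wordAlt stage1).getD 28 []) = 1 from ⟨ea, ei⟩)))) hno
  · obtain ⟨i, hi, ei⟩ := H.alt1
    replace hi : i < 29 := hi
    interval_cases i
    · obtain ⟨j, hj, ej⟩ := H.alt3
      replace hj : j < 29 := hj
      interval_cases j
      · exact absurd (memC0_0 (H.rels_of_eq (ex := [cdAlt.getD 2 [], (wordAlt stage1).getD 0 [], (wordAlt stage3).getD 0 []]) (by decide +kernel) (by simpa using (show eval H.mark (cdAlt.getD 2 []) = 1 ∧ eval H.mark ((wordAlt stage1).getD 0 []) = 1 ∧ eval H.mark ((wordAlt stage3).getD 0 []) = 1 from ⟨ea, ei, ej⟩)))) hno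
      · exact absurd (memC0_1 (H.rels_of_eq (ex := [cdAlt.getD 2 [], (wordAlt stage1).getD 0 [], (wordAlt stage3).getD 1 []]) (by decide +kernel) (by simpa using (show eval H.mark (cdAlt.getD 2 []) = 1 ∧ eval H.mark ((wordAlt stage1).getD 0 []) = 1 ∧ eval H.mark ((wordAlt stage3).getD 1 []) = 1 from ⟨ea, ei, ej⟩)))) hno
      · exact absurd (memC0_2 (H.rels_of_eq (ex := [cdAlt.getD 2 [], (wordAlt stage1).getD 0 [], (wordAlt stage3).getD 2 []]) (by decide +kernel) (by simpa using (show eval H.mark (cdAlt.getD 2 []) = 1 ∧ eval H.mark ((wordAlt stage1).getD 0 []) = 1 ∧ eval H.mark ((wordAlt stage3).getD 2 []) = 1 from ⟨ea, ei, ej⟩)))) hno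
      · exact absurd (memC0_3 (H.rels_of_eq (ex := [cdAlt.getD 2 [], (wordAlt stage1).getD 0 [], (wordAlt stage3).getD 3 []]) (by decide +kernel) (by simpa using (show eval H.mark (cdAlt.getD 2 []) = 1 ∧ eval H.mark ((wordAlt stage1).getD 0 []) = 1 ∧ eval H.mark ((wordAlt stage3).getD 3 []) = 1 from ⟨ea, ei, ej⟩)))) hno
      · exact absurd (memC0_4 (H.rels_of_eq (ex := [cdAlt.getD 2 [], (wordAlt stage1).getD 0 [], (wordAlt stage3).getD 4 []]) (by decide +kernel) (by simpa using (show eval H.mark (cdAlt.getD 2 []) = 1 ∧ eval H.mark ((wordAlt stage1).getD 0 []) = 1 ∧ eval H.mark ((wordAlt stage3).getD 4 []) = 1 from ⟨ea, ei, ej⟩)))) hno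
      · exact absurd (memC0_5 (H.rels_of_eq (ex := [cdAlt.getD 2 [], (wordAlt stage1).getD 0 [], (wordAlt stage3).getD 5 []]) (by decide +kernel) (by simpa using (show eval H.mark (cdAlt.getD 2 []) = 1 ∧ eval H.mark ((wordAlt stage1).getD 0 []) = 1 ∧ eval H.mark ((wordAlt stage3).getD 5 []) = 1 from ⟨ea, ei, ej⟩)))) hno
      · exact absurd (memC0_6 (H.rels_of_eq (ex := [cdAlt.getD 2 [], (wordAlt stage1).getD 0 [], (wordAlt stage3).getD 6 []]) (by decide +kernel) (by simpa using (show eval H.mark (cdAlt.getD 2 []) = 1 ∧ eval H.mark ((wordAlt stage1).getD 0 []) = 1 ∧ eval H.mark ((wordAlt stage3).getD 6 []) = 1 from ⟨ea, ei, ej⟩)))) hno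
      · exact absurd (memC0_7 (H.rels_of_eq (ex := [cdAlt.getD 2 [], (wordAlt stage1).getD 0 [], (wordAlt stage3).getD 7 []]) (by decide +kernel) (by simpa using (show eval H.mark (cdAlt.getD 2 []) = 1 ∧ eval H.mark ((wordAlt stage1).getD 0 []) = 1 ∧ eval H.mark ((wordAlt stage3).getD 7 []) = 1 from ⟨ea, ei, ej⟩)))) hno
      · exact absurd (memC0_8 (H.rels_of_eq (ex := [cdAlt.getD 2 [], (wordAlt stage1).getD 0 [], (wordAlt stage3).getD 8 []]) (by decide +kernel) (by simpa using (show eval H.mark (cdAlt.getD 2 []) = 1 ∧ eval H.mark ((wordAlt stage1).getD 0 []) = 1 ∧ eval H.mark ((wordAlt stage3).getD 8 []) = 1 from ⟨ea, ei, ej⟩)))) hno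
      · exact absurd (memC0_9 (H.rels_of_eq (ex := [cdAlt.getD 2 [], (wordAlt stage1).getD 0 [], (wordAlt stage3).getD 9 []]) (by decide +kernel) (by simpa using (show eval H.mark (cdAlt.getD 2 []) = 1 ∧ eval H.mark ((wordAlt stage1).getD 0 []) = 1 ∧ eval H.mark ((wordAlt stage3).getD 9 []) = 1 from ⟨ea, ei, ej⟩)))) hno
      · exact absurd (memC0_10 (H.rels_of_eq (ex := [cdAlt.getD 2 [], (wordAlt stage1).getD 0 [], (wordAlt stage3).getD 10 []]) (by decide +kernel) (by simpa using (show eval H.mark (cdAlt.getD 2 []) = 1 ∧ eval H.mark ((wordAlt stage1).getD 0 []) = 1 ∧ eval H.mark ((wordAlt stage3).getD 10 []) = 1 from ⟨ea, ei, ej⟩)))) hno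
      · exact absurd (memC0_11 (H.rels_of_eq (ex := [cdAlt.getD 2 [], (wordAlt stage1).getD 0 [], (wordAlt stage3).getD 11 []]) (by decide +kernel) (by simpa using (show eval H.mark (cdAlt.getD 2 []) = 1 ∧ eval H.mark ((wordAlt stage1).getD 0 []) = 1 ∧ eval H.mark ((wordAlt stage3).getD 11 []) = 1 from ⟨ea, ei, ej⟩)))) hno
      · exact absurd (memC0_12 (H.rels_of_eq (ex := [cdAlt.getD 2 [], (wordAlt stage1).getD 0 [], (wordAlt stage3).getD 12 []]) (by decide +kernel) (by simpa using (show eval H.mark (cdAlt.getD 2 []) = 1 ∧ eval H.mark ((wordAlt stage1).getD 0 []) = 1 ∧ eval H.mark ((wordAlt stage3).getD 12 []) = 1 from ⟨ea, ei, ej⟩)))) hno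
      · exact absurd (memC0_13 (H.rels_of_eq (ex := [cdAlt.getD 2 [], (wordAlt stage1).getD 0 [], (wordAlt stage3).getD 13 []]) (by decide +kernel) (by simpa using (show eval H.mark (cdAlt.getD 2 []) = 1 ∧ eval H.mark ((wordAlt stage1).getD 0 []) = 1 ∧ eval H.mark ((wordAlt stage3).getD 13 []) = 1 from ⟨ea, ei, ej⟩)))) hno
      · exact absurd (memC0_14 (H.rels_of_eq (ex := [cdAlt.getD 2 [], (wordAlt stage1).getD 0 [], (wordAlt stage3).getD 14 []]) (by decide +kernel) (by simpa using (show eval H.mark (cdAlt.getD 2 []) = 1 ∧ eval H.mark ((wordAlt stage1).getD 0 []) = 1 ∧ eval H.mark ((wordAlt stage3).getD 14 []) = 1 from ⟨ea, ei, ej⟩)))) hno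
      · exact absurd (memC0_15 (H.rels_of_eq (ex := [cdAlt.getD 2 [], (wordAlt stage1).getD 0 [], (wordAlt stage3).getD 15 []]) (by decide +kernel) (by simpa using (show eval H.mark (cdAlt.getD 2 []) = 1 ∧ eval H.mark ((wordAlt stage1).getD 0 []) = 1 ∧ eval H.mark ((wordAlt stage3).getD 15 []) = 1 from ⟨ea, ei, ej⟩)))) hno
      · exact absurd (memC0_16 (H.rels_of_eq (ex := [cdAlt.getD 2 [], (wordAlt stage1).getD 0 [], (wordAlt stage3).getD 16 []]) (by decide +kernel) (by simpa using (show eval H.mark (cdAlt.getD 2 []) = 1 ∧ eval H.mark ((wordAlt stage1).getD 0 []) = 1 ∧ eval H.mark ((wordAlt stage3).getD 16 []) = 1 from ⟨ea, ei, ej⟩)))) hno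
      · exact absurd (memC0_17 (H.rels_of_eq (ex := [cdAlt.getD 2 [], (wordAlt stage1).getD 0 [], (wordAlt stage3).getD 17 []]) (by decide +kernel) (by simpa using (show eval H.mark (cdAlt.getD 2 []) = 1 ∧ eval H.mark ((wordAlt stage1).getD 0 []) = 1 ∧ eval H.mark ((wordAlt stage3).getD 17 []) = 1 from ⟨ea, ei, ej⟩)))) hno
      · exact absurd (memC0_18 (H.rels_of_eq (ex := [cdAlt.getD 2 [], (wordAlt stage1).getD 0 [], (wordAlt stage3).getD 18 []]) (by decide +kernel) (by simpa using (show eval H.mark (cdAlt.getD 2 []) = 1 ∧ eval H.mark ((wordAlt stage1).getD 0 []) = 1 ∧ eval H.mark ((wordAlt stage3).getD 18 []) = 1 from ⟨ea, ei, ej⟩)))) hno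
      · exact absurd (memC0_19 (H.rels_of_eq (ex := [cdAlt.getD 2 [], (wordAlt stage1).getD 0 [], (wordAlt stage3).getD 19 []]) (by decide +kernel) (by simpa using (show eval H.mark (cdAlt.getD 2 []) = 1 ∧ eval H.mark ((wordAlt stage1).getD 0 []) = 1 ∧ eval H.mark ((wordAlt stage3).getD 19 []) = 1 from ⟨ea, ei, ej⟩)))) hno
      · exact absurd (memC0_20 (H.rels_of_eq (ex := [cdAlt.getD 2 [], (wordAlt stage1).getD 0 [], (wordAlt stage3).getD 20 []]) (by decide +kernel) (by simpa using (show eval H.mark (cdAlt.getD 2 []) = 1 ∧ eval H.mark ((wordAlt stage1).getD 0 []) = 1 ∧ eval H.mark ((wordAlt stage3).getD 20 []) = 1 from ⟨ea, ei, ej⟩)))) hno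
      · exact absurd (memC0_21 (H.rels_of_eq (ex := [cdAlt.getD 2 [], (wordAlt stage1).getD 0 [], (wordAlt stage3).getD 21 []]) (by decide +kernel) (by simpa using (show eval H.mark (cdAlt.getD 2 []) = 1 ∧ eval H.mark ((wordAlt stage1).getD 0 []) = 1 ∧ eval H.mark ((wordAlt stage3).getD 21 []) = 1 from ⟨ea, ei, ej⟩)))) hno
      · exact absurd (memC0_22 (H.rels_of_eq (ex := [cdAlt.getD 2 [], (wordAlt stage1).getD 0 [], (wordAlt stage3).getD 22 []]) (by decide +kernel) (by simpa using (show eval H.mark (cdAlt.getD 2 []) = 1 ∧ eval H.mark ((wordAlt stage1).getD 0 []) = 1 ∧ eval H.mark ((wordAlt stage3).getD 22 []) = 1 from ⟨ea, ei, ej⟩)))) hno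
      · exact absurd (memC0_23 (H.rels_of_eq (ex := [cdAlt.getD 2 [], (wordAlt stage1).getD 0 [], (wordAlt stage3).getD 23 []]) (by decide +kernel) (by simpa using (show eval H.mark (cdAlt.getD 2 []) = 1 ∧ eval H.mark ((wordAlt stage1).getD 0 []) = 1 ∧ eval H.mark ((wordAlt stage3).getD 23 []) = 1 from ⟨ea, ei, ej⟩)))) hno
      · exact absurd (memC0_24 (H.rels_of_eq (ex := [cdAlt.getD 2 [], (wordAlt stage1).getD 0 [], (wordAlt stage3).getD 24 []]) (by decide +kernel) (by simpa using (show eval H.mark (cdAlt.getD 2 []) = 1 ∧ eval H.mark ((wordAlt stage1).getD 0 []) = 1 ∧ eval H.mark ((wordAlt stage3).getD 24 []) = 1 from ⟨ea, ei, ej⟩)))) hno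
      · exact absurd (memC0_25 (H.rels_of_eq (ex := [cdAlt.getD 2 [], (wordAlt stage1).getD 0 [], (wordAlt stage3).getD 25 []]) (by decide +kernel) (by simpa using (show eval H.mark (cdAlt.getD 2 []) = 1 ∧ eval H.mark ((wordAlt stage1).getD 0 []) = 1 ∧ eval H.mark ((wordAlt stage3).getD 25 []) = 1 from ⟨ea, ei, ej⟩)))) hno
      · exact absurd (memC0_26 (H.rels_of_eq (ex := [cdAlt.getD 2 [], (wordAlt stage1).getD 0 [], (wordAlt stage3).getD 26 []]) (by decide +kernel) (by simpa using (show eval H.mark (cdAlt.getD 2 []) = 1 ∧ eval H.mark ((wordAlt stage1).getD 0 []) = 1 ∧ eval H.mark ((wordAlt stage3).getD 26 []) = 1 from ⟨ea, ei, ej⟩)))) hno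
      · exact absurd (memC0_27 (H.rels_of_eq (ex := [cdAlt.getD 2 [], (wordAlt stage1).getD 0 [], (wordAlt stage3).getD 27 []]) (by decide +kernel) (by simpa using (show eval H.mark (cdAlt.getD 2 []) = 1 ∧ eval H.mark ((wordAlt stage1).getD 0 []) = 1 ∧ eval H.mark ((wordAlt stage3).getD 27 []) = 1 from ⟨ea, ei, ej⟩)))) hno
      · exact absurd (memC0_28 (H.rels_of_eq (ex := [cdAlt.getD 2 [], (wordAlt stage1).getD 0 [], (wordAlt stage3).getD 28 []]) (by decide +kernel) (by simpa using (show eval H.mark (cdAlt.getD 2 []) = 1 ∧ eval H.mark ((wordAlt stage1).getD 0 []) = 1 ∧ eval H.mark ((wordAlt stage3).getD 28 []) = 1 from ⟨ea, ei, ej⟩)))) hno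
    · exact absurd (memC1 (H.rels_of_eq (ex := [cdAlt.getD 2 [], (wordAlt stage1).getD 1 []]) (by decide +kernel) (by simpa using (show eval H.mark (cdAlt.getD 2 []) = 1 ∧ eval H.mark ((wordAlt stage1).getD 1 []) = 1 from ⟨ea, ei⟩)))) hno
    · exact absurd (memC2 (H.rels_of_eq (ex := [cdAlt.getD 2 [], (wordAlt stage1).getD 2 []]) (by decide +kernel) (by simpa using (show eval H.mark (cdAlt.getD 2 []) = 1 ∧ eval H.mark ((wordAlt stage1).getD 2 []) = 1 from ⟨ea, ei⟩)))) hno
    · exact absurd (memC3 (H.rels_of_eq (ex := [cdAlt.getD 2 [], (wordAlt stage1).getD 3 []]) (by decide +kernel) (by simpa using (show eval H.mark (cdAlt.getD 2 []) = 1 ∧ eval H.mark ((wordAlt stage1).getD 3 []) = 1 from ⟨ea, ei⟩)))) hno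
    · exact absurd (memC4 (H.rels_of_eq (ex := [cdAlt.getD 2 [], (wordAlt stage1).getD 4 []]) (by decide +kernel) (by simpa using (show eval H.mark (cdAlt.getD 2 []) = 1 ∧ eval H.mark ((wordAlt stage1).getD 4 []) = 1 from ⟨ea, ei⟩)))) hno
    · exact absurd (memC5 (H.rels_of_eq (ex := [cdAlt.getD 2 [], (wordAlt stage1).getD 5 []]) (by decide +kernel) (by simpa using (show eval H.mark (cdAlt.getD 2 []) = 1 ∧ eval H.mark ((wordAlt stage1).getD 5 []) = 1 from ⟨ea, ei⟩)))) hno
    · exact absurd (memC6 (H.rels_of_eq (ex := [cdAlt.getD 2 [], (wordAlt stage1).getD 6 []]) (by decide +kernel) (by simpa using (show eval H.mark (cdAlt.getD 2 []) = 1 ∧ eval H.mark ((wordAlt stage1).getD 6 []) = 1 from ⟨ea, ei⟩)))) hno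
    · exact absurd (memC7 (H.rels_of_eq (ex := [cdAlt.getD 2 [], (wordAlt stage1).getD 7 []]) (by decide +kernel) (by simpa using (show eval H.mark (cdAlt.getD 2 []) = 1 ∧ eval H.mark ((wordAlt stage1).getD 7 []) = 1 from ⟨ea, ei⟩)))) hno
    · exact absurd (memC8 (H.rels_of_eq (ex := [cdAlt.getD 2 [], (wordAlt stage1).getD 8 []]) (by decide +kernel) (by simpa using (show eval H.mark (cdAlt.getD 2 []) = 1 ∧ eval H.mark ((wordAlt stage1).getD 8 []) = 1 from ⟨ea, ei⟩)))) hno
    · exact absurd (memC9 (H.rels_of_eq (ex := [cdAlt.getD 2 [], (wordAlt stage1).getD 9 []]) (by decide +kernel) (by simpa using (show eval H.mark (cdAlt.getD 2 []) = 1 ∧ eval H.mark ((wordAlt stage1).getD 9 []) = 1 from ⟨ea, ei⟩)))) hno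
    · exact absurd (memC10 (H.rels_of_eq (ex := [cdAlt.getD 2 [], (wordAlt stage1).getD 10 []]) (by decide +kernel) (by simpa using (show eval H.mark (cdAlt.getD 2 []) = 1 ∧ eval H.mark ((wordAlt stage1).getD 10 []) = 1 from ⟨ea, ei⟩)))) hno
    · exact absurd (memC11 (H.rels_of_eq (ex := [cdAlt.getD 2 [], (wordAlt stage1).getD 11 []]) (by decide +kernel) (by simpa using (show eval H.mark (cdAlt.getD 2 []) = 1 ∧ eval H.mark ((wordAlt stage1).getD 11 []) = 1 from ⟨ea, ei⟩)))) hno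
    · exact absurd (memC12 (H.rels_of_eq (ex := [cdAlt.getD 2 [], (wordAlt stage1).getD 12 []]) (by decide +kernel) (by simpa using (show eval H.mark (cdAlt.getD 2 []) = 1 ∧ eval H.mark ((wordAlt stage1).getD 12 []) = 1 from ⟨ea, ei⟩)))) hno
    · exact absurd (memC13 (H.rels_of_eq (ex := [cdAlt.getD 2 [], (wordAlt stage1).getD 13 []]) (by decide +kernel) (by simpa using (show eval H.mark (cdAlt.getD 2 []) = 1 ∧ eval H.mark ((wordAlt stage1).getD 13 []) = 1 from ⟨ea, ei⟩)))) hno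
    · exact absurd (memC14 (H.rels_of_eq (ex := [cdAlt.getD 2 [], (wordAlt stage1).getD 14 []]) (by decide +kernel) (by simpa using (show eval H.mark (cdAlt.getD 2 []) = 1 ∧ eval H.mark ((wordAlt stage1).getD 14 []) = 1 from ⟨ea, ei⟩)))) hno
    · exact Or.inr (Or.inr (H.rels_of_eq (ex := [cdAlt.getD 2 [], (wordAlt stage1).getD 15 []]) (by decide +kernel) (by simpa using (show eval H.mark (cdAlt.getD 2 []) = 1 ∧ eval H.mark ((wordAlt stage1).getD 15 []) = 1 from ⟨ea, ei⟩))))
    · exact absurd (memC16 (H.rels_of_eq (ex := [cdAlt.getD 2 [], (wordAlt stage1).getD 16 []]) (by decide +kernel) (by simpa using (show eval H.mark (cdAlt.getD 2 []) = 1 ∧ eval H.mark ((wordAlt stage1).getD 16 []) = 1 from ⟨ea, ei⟩)))) hno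
    · exact absurd (memC17 (H.rels_of_eq (ex := [cdAlt.getD 2 [], (wordAlt stage1).getD 17 []]) (by decide +kernel) (by simpa using (show eval H.mark (cdAlt.getD 2 []) = 1 ∧ eval H.mark ((wordAlt stage1).getD 17 []) = 1 from ⟨ea, ei⟩)))) hno
    · exact absurd (memC18 (H.rels_of_eq (ex := [cdAlt.getD 2 [], (wordAlt stage1).getD 18 []]) (by decide +kernel) (by simpa using (show eval H.mark (cdAlt.getD 2 []) = 1 ∧ eval H.mark ((wordAlt stage1).getD 18 []) = 1 from ⟨ea, ei⟩)))) hno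
    · exact absurd (memC19 (H.rels_of_eq (ex := [cdAlt.getD 2 [], (wordAlt stage1).getD 19 []]) (by decide +kernel) (by simpa using (show eval H.mark (cdAlt.getD 2 []) = 1 ∧ eval H.mark ((wordAlt stage1).getD 19 []) = 1 from ⟨ea, ei⟩)))) hno
    · exact absurd (memC20 (H.rels_of_eq (ex := [cdAlt.getD 2 [], (wordAlt stage1).getD 20 []]) (by decide +kernel) (by simpa using (show eval H.mark (cdAlt.getD 2 []) = 1 ∧ eval H.mark ((wordAlt stage1).getD 20 []) = 1 from ⟨ea, ei⟩)))) hno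
    · exact absurd (memC21 (H.rels_of_eq (ex := [cdAlt.getD 2 [], (wordAlt stage1).getD 21 []]) (by decide +kernel) (by simpa using (show eval H.mark (cdAlt.getD 2 []) = 1 ∧ eval H.mark ((wordAlt stage1).getD 21 []) = 1 from ⟨ea, ei⟩)))) hno
    · exact absurd (memC22 (H.rels_of_eq (ex := [cdAlt.getD 2 [], (wordAlt stage1).getD 22 []]) (by decide +kernel) (by simpa using (show eval H.mark (cdAlt.getD 2 []) = 1 ∧ eval H.mark ((wordAlt stage1).getD 22 []) = 1 from ⟨ea, ei⟩)))) hno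
    · exact absurd (memC23 (H.rels_of_eq (ex := [cdAlt.getD 2 [], (wordAlt stage1).getD 23 []]) (by decide +kernel) (by simpa using (show eval H.mark (cdAlt.getD 2 []) = 1 ∧ eval H.mark ((wordAlt stage1).getD 23 []) = 1 from ⟨ea, ei⟩)))) hno
    · exact absurd (memC24 (H.rels_of_eq (ex := [cdAlt.getD 2 [], (wordAlt stage1).getD 24 []]) (by decide +kernel) (by simpa using (show eval H.mark (cdAlt.getD 2 []) = 1 ∧ eval H.mark ((wordAlt stage1).getD 24 []) = 1 from ⟨ea, ei⟩)))) hno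
    · exact absurd (memC25 (H.rels_of_eq (ex := [cdAlt.getD 2 [], (wordAlt stage1).getD 25 []]) (by decide +kernel) (by simpa using (show eval H.mark (cdAlt.getD 2 []) = 1 ∧ eval H.mark ((wordAlt stage1).getD 25 []) = 1 from ⟨ea, ei⟩)))) hno
    · exact absurd (memC26 (H.rels_of_eq (ex := [cdAlt.getD 2 [], (wordAlt stage1).getD 26 []]) (by decide +kernel) (by simpa using (show eval H.mark (cdAlt.getD 2 []) = 1 ∧ eval H.mark ((wordAlt stage1).getD 26 []) = 1 from ⟨ea, ei⟩)))) hno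
    · exact absurd (memC27 (H.rels_of_eq (ex := [cdAlt.getD 2 [], (wordAlt stage1).getD 27 []]) (by decide +kernel) (by simpa using (show eval H.mark (cdAlt.getD 2 []) = 1 ∧ eval H.mark ((wordAlt stage1).getD 27 []) = 1 from ⟨ea, ei⟩)))) hno
    · exact absurd (memC28 (H.rels_of_eq (ex := [cdAlt.getD 2 [], (wordAlt stage1).getD 28 []]) (by decide +kernel) (by simpa using (show eval H.mark (cdAlt.getD 2 []) = 1 ∧ eval H.mark ((wordAlt stage1).getD 28 []) = 1 from ⟨ea, ei⟩)))) hno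

end Hyp

end Cfsg.Agent.Lib.GLTwoThreeAmalgam
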