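import Mathlib
import Cfsg.Agent.Lib.CosetTable.Action

/-!
Consequences of coset table certificates for groups generated by four involutions.
-/

set_option autoImplicit false

namespace Cfsg.Agent.Lib.GLTwoThreeAmalgam

open Cfsg.Agent.Lib.CosetTable

/-- The relators common to all cases: three involutions generating the involution centraliser and a
fourth one inverting a fusing element. -/
def baseRels : List (List ℕ) :=
  [[0, 0], [1, 1], [2, 2], [3, 3], [0, 1, 0, 1, 0, 1, 0, 1], [0, 2, 0, 2, 0, 2],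
    [1, 2, 1, 2, 1, 2], [2, 0, 1, 0, 1, 2, 0, 1, 0, 1], [0, 3, 0, 3], [1, 3, 1, 3, 1, 3],
    [3, 0, 1, 0, 1, 3, 1, 0, 1]]

/-- The subgroup words. -/
def subWords : List (List ℕ) := [[0], [1], [2]]

universe u

variable {G : Type u} [Group G] {f : ℕ → G}

/-- The subgroup generated by the first four values. -/
def genSub (f : ℕ → G) (k : ℕ) : Subgroup G :=
  Subgroup.closure {x | ∃ g, g < k ∧ f g = x}

/-- The values inside the generated subgroup. -/
def inGen (f : ℕ → G) (k g : ℕ) : genSub f k :=
  if h : g < k then ⟨f g, Subgroup.subset_closure ⟨g, h, rfl⟩⟩ else 1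

theorem coe_inGen {k g : ℕ} (h : g < k) : ((inGen f k g : genSub f k) : G) = f g := by
  simp [inGen, h]

theorem gen_inGen (f : ℕ → G) (k : ℕ) :
    Subgroup.closure {x | ∃ g, g < k ∧ inGen f k g = x} = ⊤ := by
  have h : Subgroup.closure {x | ∃ g, g < k ∧ inGen f k g = x} =
      (genSub f k).subgroupOf (genSub f k) := by
    apply Subgroup.map_injective (genSub f k).subtype_injective
    rw [MonoidHom.map_closure, Subgroup.subgroupOf_self, ← MonoidHom.range_eq_map,
      Subgroup.range_subtype]
    refine congrArg Subgroup.closure (Set.ext fun x => ⟨?_, ?_⟩)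
    · rintro ⟨_, ⟨g, hg, rfl⟩, rfl⟩
      exact ⟨g, hg, (coe_inGen hg).symm⟩
    · rintro ⟨g, hg, rfl⟩
      exact ⟨_, ⟨g, hg, rfl⟩, coe_inGen hg⟩
  rw [h, Subgroup.subgroupOf_self]

theorem coe_eval_inGen {k : ℕ} : ∀ {w : List ℕ}, (∀ a ∈ w, a < k) →
    ((eval (inGen f k) w : genSub f k) : G) = eval f w
  | [], _ => rfl
  | a :: w, h => by
    simp only [eval, Subgroup.coe_mul, coe_inGen (h a (by simp)),
      coe_eval_inGen (fun b hb => h b (List.mem_cons_of_mem _ hb))]

theorem model_inGen {C : Cert} (hw : C.wordsOK = true)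
    (hsq : ∀ g, g < C.k → [g, g] ∈ C.rels) (hrel : ∀ w ∈ C.rels, eval f w = 1) :
    Model (inGen f C.k) C := by
  have hlt : ∀ w ∈ C.rels, ∀ a ∈ w, a < C.k := by
    have h := hw
    simp only [Cert.wordsOK, Bool.and_eq_true, List.all_eq_true, blt_iff] at h
    exact h.1
  refine ⟨hw, fun g hg => ?_, fun w hwm => ?_, gen_inGen f C.k⟩
  · apply Subtype.ext
    rw [Subgroup.coe_mul, coe_inGen hg, Subgroup.coe_one]
    simpa [eval] using hrel _ (hsq g hg)
  · apply Subtype.ext
    rw [coe_eval_inGen (hlt w hwm), hrel w hwm, Subgroup.coe_one]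

/-- A checked fact fixing the base node puts a generator into the subgroup. -/
theorem mem_of_cert {C : Cert} (hw : C.wordsOK = true) (hsq : ∀ g, g < C.k → [g, g] ∈ C.rels)
    (hrel : ∀ w ∈ C.rels, eval f w = 1) (hr : C.rulesOK C.cyc C.rules = true) {N : ℕ}
    (hN : C.Upto N) (i : ℕ) (hi : i < N) (g : ℕ) (hg : g < C.k)
    (hf : C.fL i = g ∧ C.fU i = 0 ∧ C.fV i = 0) : f g ∈ wordSubgroup f C.subs := by
  have M := model_inGen hw hsq hrel
  have e := facts_valid M hr hN i hi
  rw [hf.1, hf.2.1, hf.2.2, lab_of_lt _ hg] at e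
  simp only [node, nodeVal_zero] at e
  rw [MulAction.Quotient.smul_mk, smul_eq_mul, mul_one, QuotientGroup.eq, mul_one] at e
  have e' := (Subgroup.inv_mem_iff _).mp e
  have hmap : (wordSubgroup (inGen f C.k) C.subs).map (genSub f C.k).subtype
      ≤ wordSubgroup f C.subs := by
    rw [wordSubgroup, MonoidHom.map_closure, Subgroup.closure_le]
    rintro _ ⟨_, ⟨w, hwm, rfl⟩, rfl⟩
    refine Subgroup.subset_closure ⟨w, hwm, ?_⟩
    exact (coe_eval_inGen (M.subs_lt w hwm)).symm
  have := hmap (Subgroup.mem_map_of_mem _ e')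
  rwa [Subgroup.coe_subtype, coe_inGen hg] at this

/-- A checked table bounds the order of the generated subgroup. -/
theorem card_le_of_checked {C : Cert} {A : Table} {N : ℕ} (K : Checked C A N)
    (hw : C.wordsOK = true) (hsq : ∀ g, g < C.k → [g, g] ∈ C.rels)
    (hrel : ∀ w ∈ C.rels, eval f w = 1) (hfin : Finite (wordSubgroup f C.subs)) :
    Finite (genSub f C.k) ∧
      Nat.card (genSub f C.k) ≤ A.n * Nat.card (wordSubgroup f C.subs) := by
  have M := model_inGen hw hsq hrel
  have hsurj : Function.Surjective (K.coset (inGen f C.k)) := by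
    have h : ∀ x : genSub f C.k, ∀ i, ∃ j, K.coset (inGen f C.k) j
        = x • K.coset (inGen f C.k) i := by
      intro x
      have hx : x ∈ Subgroup.closure {x | ∃ g, g < C.k ∧ inGen f C.k g = x} := by
        rw [gen_inGen]; trivial
      induction hx using Subgroup.closure_induction'' with
      | mem y hy => obtain ⟨g, hg, rfl⟩ := hy; exact fun i => ⟨_, K.coset_perm M hg i⟩
      | inv_mem y hy =>
        obtain ⟨g, hg, rfl⟩ := hy
        rw [inv_eq_of_mul_eq_one_right (M.invol g hg)]
        exact fun i => ⟨_, K.coset_perm M hg i⟩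
      | one => exact fun i => ⟨i, (one_smul _ _).symm⟩
      | mul y z _ _ hy hz =>
        intro i
        obtain ⟨j, hj⟩ := hz i
        obtain ⟨l, hl⟩ := hy j
        exact ⟨l, by rw [mul_smul, ← hj, hl]⟩
    intro q
    induction q using QuotientGroup.induction_on with
    | _ x =>
      obtain ⟨j, hj⟩ := h x ⟨0, K.pos⟩
      exact ⟨j, by rw [hj, K.coset_zero, MulAction.Quotient.smul_mk, smul_eq_mul, mul_one]⟩
  haveI : Finite ((genSub f C.k) ⧸ wordSubgroup (inGen f C.k) C.subs) :=
    Finite.of_surjective _ hsurj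
  have hidx : (wordSubgroup (inGen f C.k) C.subs).index ≤ A.n := by
    simpa [Subgroup.index] using Nat.card_le_card_of_surjective _ hsurj
  let ι : wordSubgroup (inGen f C.k) C.subs → wordSubgroup f C.subs := fun x =>
    ⟨((x : genSub f C.k) : G), by
      refine (?_ : (wordSubgroup (inGen f C.k) C.subs).map (genSub f C.k).subtype
        ≤ wordSubgroup f C.subs) (Subgroup.mem_map_of_mem _ x.2)
      rw [wordSubgroup, MonoidHom.map_closure, Subgroup.closure_le]
      rintro _ ⟨_, ⟨w, hwm, rfl⟩, rfl⟩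
      exact Subgroup.subset_closure ⟨w, hwm, (coe_eval_inGen (M.subs_lt w hwm)).symm⟩⟩
  have hι : Function.Injective ι := fun x y e => Subtype.ext (Subtype.ext (congrArg
    (fun z : wordSubgroup f C.subs => (z : G)) e))
  haveI : Finite (wordSubgroup (inGen f C.k) C.subs) := Finite.of_injective ι hι
  haveI : (wordSubgroup (inGen f C.k) C.subs).FiniteIndex :=
    Subgroup.finiteIndex_of_finite_quotient
  haveI : Finite (genSub f C.k) := by
    refine Nat.finite_of_card_ne_zero ?_
    rw [← Subgroup.card_mul_index (wordSubgroup (inGen f C.k) C.subs)]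
    exact Nat.mul_ne_zero Nat.card_pos.ne' Subgroup.FiniteIndex.index_ne_zero
  refine ⟨inferInstance, ?_⟩
  rw [← Subgroup.card_mul_index (wordSubgroup (inGen f C.k) C.subs), mul_comm]
  exact Nat.mul_le_mul hidx (Nat.card_le_card_of_injective ι hι)

end Cfsg.Agent.Lib.GLTwoThreeAmalgam
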