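import Mathlib

/-!
Cube maps on groups of order 27.
-/

set_option autoImplicit false

namespace Cfsg.Agent.Lib.GLTwoThreeAmalgam

universe u

variable {P : Type u} [Group P]

theorem mul_pow_three_of_comm {a b c : P} (hc : b * a = c * a * b) (hca : Commute c a)
    (hcb : Commute c b) (h3 : c ^ 3 = 1) : (a * b) ^ 3 = a ^ 3 * b ^ 3 := by
  have e1 : b * a = c * (a * b) := by rw [hc, mul_assoc]
  have e2 : (a * b) * (a * b) = c * (a * a * (b * b)) := by
    calc (a * b) * (a * b) = a * (b * a) * b := by group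
      _ = a * c * (a * b) * b := by rw [e1]; group
      _ = c * a * (a * b) * b := by rw [hca.eq]
      _ = _ := by group
  have e3 : b * b * a = c * c * (a * (b * b)) := by
    calc b * b * a = b * (b * a) := by group
      _ = b * c * (a * b) := by rw [e1]; group
      _ = c * (b * a) * b := by rw [← hcb.eq]; group
      _ = c * (c * (a * b)) * b := by rw [e1]
      _ = _ := by group
  have hc2a : Commute (c * c) a := hca.mul_left hca
  calc (a * b) ^ 3 = (a * b) * (a * b) * (a * b) := by rw [pow_succ, pow_two]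
    _ = c * (a * a) * (b * b * a) * b := by rw [e2]; group
    _ = c * (a * a * (c * c)) * (a * (b * b)) * b := by rw [e3]; group
    _ = c * (c * c * (a * a)) * (a * (b * b)) * b := by rw [(hc2a.mul_right hc2a).eq]
    _ = c ^ 3 * a ^ 3 * b ^ 3 := by
      simp only [pow_succ, pow_zero, one_mul, mul_assoc]
    _ = _ := by rw [h3, one_mul]

variable [Finite P] (hP : Nat.card P = 27)

include hP in
theorem mul_pow_three (a b : P) : (a * b) ^ 3 = a ^ 3 * b ^ 3 := by
  by_cases hcomm : ∀ x y : P, x * y = y * x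
  · exact Commute.mul_pow (hcomm a b) 3
  haveI : Fact (Nat.Prime 3) := ⟨Nat.prime_three⟩
  have hPP : IsPGroup 3 P := IsPGroup.of_card (n := 3) (by rw [hP]; norm_num)
  haveI : Nontrivial P := Finite.one_lt_card_iff_nontrivial.mp (by rw [hP]; norm_num)
  have hZ : 1 < Nat.card (Subgroup.center P) :=
    Finite.one_lt_card_iff_nontrivial.mpr hPP.center_nontrivial
  have hmul := Subgroup.card_mul_index (Subgroup.center P)
  rw [hP] at hmul
  have hdvd : Nat.card (Subgroup.center P) ∈ (27 : ℕ).divisors :=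
    Nat.mem_divisors.mpr ⟨⟨_, hmul.symm⟩, by norm_num⟩
  have hnc : ¬ IsCyclic (P ⧸ Subgroup.center P) := fun h => by
    apply hcomm
    exact fun x y => commutative_of_cyclic_center_quotient (QuotientGroup.mk' _)
      (by rw [QuotientGroup.ker_mk']) x y
  have hZ3 : Nat.card (Subgroup.center P) = 3 ∧ (Subgroup.center P).index = 9 := by
    have : (27 : ℕ).divisors = {1, 3, 9, 27} := by decide +kernel
    rw [this] at hdvd
    simp only [Finset.mem_insert, Finset.mem_singleton] at hdvd
    rcases hdvd with h | h | h | h <;> rw [h] at hmul hZ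
    · omega
    · exact ⟨h, by omega⟩
    · exact absurd (isCyclic_of_prime_card (p := 3) (show Nat.card (P ⧸ Subgroup.center P) = 3 from
        (show (Subgroup.center P).index = 3 by omega))) hnc
    · have h1 : (Subgroup.center P).index = 1 := by omega
      rw [Subgroup.index_eq_one] at h1
      exact absurd (fun x y => ((Subgroup.mem_center_iff.mp (h1 ▸ Subgroup.mem_top x)) y).symm) hcomm
  have hq : ∀ x y : P ⧸ Subgroup.center P, x * y = y * x := fun x y => by
    have := IsPGroup.isMulCommutative_of_card_eq_prime_sq (p := 3)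
      (show Nat.card (P ⧸ Subgroup.center P) = 3 ^ 2 by
        rw [← Subgroup.index, hZ3.2]; norm_num)
    exact this.is_comm.comm x y
  set c := b * a * b⁻¹ * a⁻¹ with hc
  have hcz : c ∈ Subgroup.center P := by
    rw [← QuotientGroup.eq_one_iff, hc]
    simp only [QuotientGroup.mk_mul, QuotientGroup.mk_inv]
    rw [hq (b : P ⧸ Subgroup.center P) a]
    group
  refine mul_pow_three_of_comm (c := c) (by rw [hc]; group)
    ((Subgroup.mem_center_iff.mp hcz a).symm) ((Subgroup.mem_center_iff.mp hcz b).symm) ?_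
  have h := pow_card_eq_one' (x := (⟨c, hcz⟩ : Subgroup.center P))
  rw [hZ3.1] at h
  exact congrArg Subtype.val h

/-- The cube map. -/
noncomputable def cubeHom : P →* P where
  toFun x := x ^ 3
  map_one' := one_pow 3
  map_mul' := mul_pow_three hP

include hP in
theorem odd_card_cubeRoots (x : P) : Odd (Nat.card {z : P // z ^ 3 = x ^ 3}) := by
  have e : {z : P // z ^ 3 = x ^ 3} ≃ (cubeHom hP).ker :=
    { toFun := fun z => ⟨x⁻¹ * z.1, by
        rw [MonoidHom.mem_ker, map_mul, map_inv, show cubeHom hP z.1 = z.1 ^ 3 from rfl, z.2,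
          show cubeHom hP x = x ^ 3 from rfl, inv_mul_cancel]⟩
      invFun := fun k => ⟨x * k.1, by
        show cubeHom hP (x * k.1) = x ^ 3
        rw [map_mul, MonoidHom.mem_ker.mp k.2, mul_one]; rfl⟩
      left_inv := fun z => Subtype.ext (mul_inv_cancel_left _ _)
      right_inv := fun k => Subtype.ext (inv_mul_cancel_left _ _) }
  rw [Nat.card_congr e]
  exact Odd.of_dvd_nat (by rw [hP]; decide) (Subgroup.card_subgroup_dvd_card _)

include hP in
/-- The cube of an element of order nine is a power of any other such cube. -/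
theorem cube_mem_zpowers {x : P} (hx : orderOf x = 9) {z : P} (hz : orderOf z = 9) :
    z ^ 3 ∈ Subgroup.zpowers (x ^ 3) := by
  have hx3 : orderOf (x ^ 3) = 3 := by rw [orderOf_pow' x (by norm_num), hx]; rfl
  have hz3 : orderOf (z ^ 3) = 3 := by rw [orderOf_pow' z (by norm_num), hz]; rfl
  haveI : Fact (Nat.Prime 3) := ⟨Nat.prime_three⟩
  have key : ∀ K : Subgroup P, x ^ 3 ∈ K → z ^ 3 ∈ K → Nat.card K = 3 →
      z ^ 3 ∈ Subgroup.zpowers (x ^ 3) := by
    intro K h1 h2 hK
    have : Subgroup.zpowers (x ^ 3) = K := Subgroup.eq_of_le_of_card_ge (Subgroup.zpowers_le.mpr h1)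
      (by rw [Nat.card_zpowers, hx3, hK])
    rw [this]; exact h2
  have hpr := Subgroup.card_mul_index (cubeHom hP).ker
  rw [Subgroup.index_ker, hP] at hpr
  have hdiv : Nat.card (cubeHom hP).ker ∈ (27 : ℕ).divisors :=
    Nat.mem_divisors.mpr ⟨⟨_, hpr.symm⟩, by norm_num⟩
  have hkx : x ^ 3 ∈ (cubeHom hP).ker := by
    show (x ^ 3) ^ 3 = 1
    rw [← pow_mul, ← pow_orderOf_eq_one x, hx]
  have hkz : z ^ 3 ∈ (cubeHom hP).ker := by
    show (z ^ 3) ^ 3 = 1
    rw [← pow_mul, ← pow_orderOf_eq_one z, hz]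
  have hrx : x ^ 3 ∈ (cubeHom hP).range := ⟨x, rfl⟩
  have hrz : z ^ 3 ∈ (cubeHom hP).range := ⟨z, rfl⟩
  have h3 : 3 ∣ Nat.card (cubeHom hP).range := hx3 ▸ Subgroup.orderOf_mk (x ^ 3) hrx ▸
    orderOf_dvd_natCard _
  have h3' : 3 ∣ Nat.card (cubeHom hP).ker := hx3 ▸ Subgroup.orderOf_mk (x ^ 3) hkx ▸
    orderOf_dvd_natCard _
  have hd : (27 : ℕ).divisors = {1, 3, 9, 27} := by decide +kernel
  rw [hd] at hdiv
  simp only [Finset.mem_insert, Finset.mem_singleton] at hdiv
  rcases hdiv with h | h | h | h <;> rw [h] at hpr h3'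
  · omega
  · exact key _ hkx hkz h
  · exact key _ hrx hrz (by omega)
  · rw [show Nat.card (cubeHom hP).range = 1 by omega] at h3
    omega

end Cfsg.Agent.Lib.GLTwoThreeAmalgam
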