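import Mathlib
import Cfsg.Agent.Lib.GLTwoThreeAmalgam.Core
import Cfsg.Agent.Lib.Compute.Mathieu.Groups
import Cfsg.Agent.Lib.Fusion.Mathieu.Identify
import Cfsg.Agent.Lib.GLTwoThreeAmalgam.Cert2
import Cfsg.Agent.Lib.GLTwoThreeAmalgam.Cert3
import Cfsg.Agent.Lib.GLTwoThreeAmalgam.Cert7
import Cfsg.Agent.S3412

/-!
Concrete groups satisfying the surviving systems of relations.
-/

set_option autoImplicit false
set_option maxRecDepth 100000

namespace Cfsg.Agent.Lib.GLTwoThreeAmalgam

open Cfsg.Agent.Lib.Compute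
open Cfsg.Agent.Lib.CosetTable (eval)

variable {G : Type*} [Group G] {O : Ops} (C : Coding G O) {S : List (ℕ × ℕ)}

/-- Code of a product of generators. -/
noncomputable def codeProd (O : Ops) (codes : List ℕ) : List ℕ → ℕ
  | [] => O.one
  | k :: w => O.mul (codes.getD k O.one) (codeProd O codes w)

/-- The codes of the generators and their inverses. -/
def genCodes : List (ℕ × ℕ) → List ℕ
  | [] => []
  | p :: l => p.1 :: p.2 :: genCodes l

theorem good_genCodes (hS : GensOK C S) {k : ℕ} :
    ∃ g ∈ genGroup C S, C.enc g = (genCodes S).getD k O.one := by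
  have key : ∀ (l : List (ℕ × ℕ)), (∀ p ∈ l, p ∈ S) → ∀ k,
      ∃ g ∈ genGroup C S, C.enc g = (genCodes l).getD k O.one := by
    intro l
    induction l with
    | nil => exact fun _ k => ⟨1, one_mem _, by simp [genCodes, C.one_enc]⟩
    | cons p l ih =>
      intro hl k
      obtain ⟨g, -, h1, h2⟩ := hS p (hl p (by simp))
      have hg : g ∈ genGroup C S := mem_genGroup_of_enc C (hl p (by simp)) h1
      match k with
      | 0 => exact ⟨g, hg, by simpa [genCodes] using h1⟩
      | 1 => exact ⟨g⁻¹, inv_mem hg, by simpa [genCodes] using h2⟩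
      | k + 2 => simpa [genCodes] using ih (fun q hq => hl q (by simp [hq])) k
  exact key S (fun _ h => h) k

theorem good_codeProd (hS : GensOK C S) : ∀ w : List ℕ,
    ∃ g ∈ genGroup C S, C.enc g = codeProd O (genCodes S) w
  | [] => ⟨1, one_mem _, C.one_enc⟩
  | k :: w => by
    obtain ⟨a, ha, ea⟩ := good_genCodes C hS (k := k)
    obtain ⟨b, hb, eb⟩ := good_codeProd hS w
    exact ⟨a * b, mul_mem ha hb, by rw [← C.mul_enc, ea, eb]; rfl⟩

/-- The code of a word in the marked elements. -/
noncomputable def codeEval (O : Ops) (codes : List ℕ) : List ℕ → ℕ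
  | [] => O.one
  | a :: w => O.mul (codeEval O codes w) (codes.getD a O.one)

/-- Codes satisfying relations and expressing the generators give a marked model. -/
theorem exists_marking (hS : GensOK C S) (ws us : List (List ℕ)) (rels : List (List ℕ))
    (hrel : (rels.all fun w => Nat.beq (codeEval O (ws.map (codeProd O (genCodes S))) w) O.one) = true)
    (hgen : ((List.range S.length).all fun j => Nat.beq
      (codeEval O (ws.map (codeProd O (genCodes S))) (us.getD j [])) (S.getD j (0, 0)).1) = true)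
    (hlt : us.all (fun u => u.all fun a => decide (a < ws.length)) = true) :
    ∃ f : ℕ → genGroup C S, (∀ w ∈ rels, eval f w = 1) ∧
      Subgroup.closure {x | ∃ g, g < ws.length ∧ f g = x} = ⊤ := by
  choose v hv he using fun w => good_codeProd C hS w
  let f : ℕ → genGroup C S := fun i => if h : i < ws.length then ⟨v ws[i], hv _⟩ else 1
  have hev : ∀ w : List ℕ, C.enc ((eval f w : genGroup C S) : G)
      = codeEval O (ws.map (codeProd O (genCodes S))) w := by
    intro w
    induction w with
    | nil => simpa [eval, codeEval] using C.one_enc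
    | cons a w ih =>
      have ha : C.enc ((f a : genGroup C S) : G) = (ws.map (codeProd O (genCodes S))).getD a O.one := by
        by_cases h : a < ws.length
        · simp [f, h, he]
        · simp [f, h, C.one_enc]
      show C.enc (((eval f w * f a : genGroup C S)) : G) = _
      rw [Subgroup.coe_mul, ← C.mul_enc, ih, ha]
      rfl
  refine ⟨f, fun w hw => Subtype.ext (C.inj ?_), ?_⟩
  · rw [hev, Subgroup.coe_one, C.one_enc]
    exact Nat.eq_of_beq_eq_true (List.all_eq_true.mp hrel w hw)
  · have hmem : ∀ u : List ℕ, (∀ a ∈ u, a < ws.length) →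
        eval f u ∈ Subgroup.closure {x | ∃ g, g < ws.length ∧ f g = x} := fun u hu =>
      CosetTable.eval_mem f _ fun a ha => Subgroup.subset_closure ⟨a, hu a ha, rfl⟩
    apply Subgroup.map_injective (genGroup C S).subtype_injective
    rw [← MonoidHom.range_eq_map, Subgroup.range_subtype]
    refine le_antisymm (Subgroup.map_subtype_le _) ((Subgroup.closure_le _).mpr ?_)
    rintro g ⟨p, hp, hg⟩
    obtain ⟨j, hj, rfl⟩ := List.getElem_of_mem hp
    refine ⟨eval f (us.getD j []), hmem _ fun a ha => ?_, C.inj ?_⟩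
    · by_cases h : j < us.length
      · rw [List.getD_eq_getElem _ _ h] at ha
        simpa using List.all_eq_true.mp (List.all_eq_true.mp hlt _ (List.getElem_mem h)) a ha
      · simp [List.getD_eq_getElem?_getD, List.getElem?_eq_none (Nat.le_of_not_lt h)] at ha
    · have := Nat.eq_of_beq_eq_true (List.all_eq_true.mp hgen j (List.mem_range.mpr hj))
      rw [List.getD_eq_getElem _ _ hj, ← hev] at this
      exact this.trans hg.symm

/-- A marking of the concrete group satisfying the relations of `certB17`. -/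
theorem markingB17 : ∃ f : ℕ → genGroup Mathieu.ptCoding Mathieu.m11Gens,
    (∀ w ∈ certB17.rels, eval f w = 1) ∧ Subgroup.closure {x | ∃ g, g < 4 ∧ f g = x} = ⊤ :=
  exists_marking Mathieu.ptCoding (Mathieu.gensOK_of_check Mathieu.pairsInM24_m11).1
    [[0, 0], [2, 1, 3, 3, 0, 2], [0, 0, 2, 2, 0, 3, 3, 0], [2, 0, 0, 3, 3, 0, 0, 2, 2, 0, 2]]
    [[1, 3, 2, 0, 1, 2, 3, 1], [2, 3, 2, 0, 1, 2, 3, 0, 1, 2, 0]]
    certB17.rels (by decide +kernel) (by decide +kernel) (by decide +kernel)

/-- A marking of the concrete group satisfying the relations of `certC15`. -/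
theorem markingC15 : ∃ f : ℕ → genGroup Mathieu.ptCoding Mathieu.m11Gens,
    (∀ w ∈ certC15.rels, eval f w = 1) ∧ Subgroup.closure {x | ∃ g, g < 4 ∧ f g = x} = ⊤ :=
  exists_marking Mathieu.ptCoding (Mathieu.gensOK_of_check Mathieu.pairsInM24_m11).1
    [[0, 0], [2, 1, 3, 3, 0, 2], [0, 2, 1, 2, 0, 3, 1, 2, 1], [2, 0, 0, 3, 3, 0, 0, 2, 2, 0, 2]]
    [[1, 3, 2, 1, 0, 2, 3, 1], [3, 2, 3, 2, 0, 1, 3, 0, 2, 3]]
    certC15.rels (by decide +kernel) (by decide +kernel) (by decide +kernel)

/-- A marking of the concrete group satisfying the relations of `certB11`. -/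
theorem markingB11 : ∃ f : ℕ → genGroup S3412.vecCoding CommGraphData.l33Gens,
    (∀ w ∈ certB11.rels, eval f w = 1) ∧ Subgroup.closure {x | ∃ g, g < 4 ∧ f g = x} = ⊤ :=
  exists_marking S3412.vecCoding S3412.gensOK
    [[0, 2, 0, 2, 0, 2, 0, 2], [1, 2, 1, 3, 1, 3, 1, 3, 1, 2, 0], [0, 2, 1, 2, 1, 2, 1, 2, 0, 3, 0, 3], [1, 3, 0, 3, 0, 3, 0, 3, 0, 3, 0, 3, 1, 3]]
    [[3, 2, 1, 3], [1, 3, 0, 1, 2, 1, 3, 2, 3, 2, 0]]
    certB11.rels (by decide +kernel) (by decide +kernel) (by decide +kernel)

end Cfsg.Agent.Lib.GLTwoThreeAmalgam
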