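import Mathlib
import Cfsg.Agent.Lib.GLTwoThreeAmalgam.Cases
import Cfsg.Agent.Lib.GLTwoThreeAmalgam.CertCore
import Cfsg.Agent.Lib.GLTwoThreeAmalgam.Models

/-!
Groups with one class of involutions, the involution centraliser being the general linear group of
degree two over three elements, are the concrete groups of order 5616 or 7920.
-/

set_option autoImplicit false
set_option maxRecDepth 100000

namespace Cfsg.Agent.Lib.GLTwoThreeAmalgam

open Cfsg.Agent.Lib Cfsg.Agent.Lib.CosetTable

universe u v

theorem iso_of_checked {G : Type u} [Group G] [Finite G] {t : G} (H : Hyp t) {C : Cert} {A : Table}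
    {N : ℕ} (K : Checked C A N) (hw : C.wordsOK = true) (hk : C.k = 4) (hsubs : C.subs = subWords)
    (hsq : ∀ g, g < C.k → [g, g] ∈ C.rels) (hbase : ∀ w ∈ baseRels, w ∈ C.rels)
    (hG : ∀ w ∈ C.rels, eval H.mark w = 1) {M : Type v} [Group M] [Finite M] [IsSimpleGroup M]
    (hn : Nat.card M = A.n * 48) (hn' : Nat.card M = 5616 ∨ Nat.card M = 7920) (f' : ℕ → M)
    (hM : ∀ w ∈ C.rels, eval f' w = 1)
    (hgen : Subgroup.closure {x | ∃ g, g < 4 ∧ f' g = x} = ⊤) : Nonempty (G ≃* M) := by
  let F : ℕ → G × M := fun i => (H.mark i, f' i)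
  have hev : ∀ w : List ℕ, eval F w = (eval H.mark w, eval f' w) := by
    intro w
    induction w with
    | nil => rfl
    | cons a w ih => simp only [eval, ih]; rfl
  have hF : ∀ w ∈ C.rels, eval F w = 1 := fun w hw => by rw [hev, hG w hw, hM w hw]; rfl
  let F' : ℕ → G × M := fun i => if i < 3 then F i else 1
  have hF' : ∀ w ∈ certCore48.rels, eval F' w = 1 := by
    intro w hw
    rcases (show ∀ w ∈ certCore48.rels, (w ∈ baseRels ∧ ∀ a ∈ w, a < 3) ∨ ∀ a ∈ w, a = 3 by decide) w hw
      with ⟨hb, hlt⟩ | h3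
    · rw [← hF w (hbase w hb)]
      exact eval_congr _ fun a ha => if_pos (hlt a ha)
    · rw [eval_congr F' (f' := fun _ => (1 : G × M)) fun a ha => if_neg (by rw [h3 a ha]; norm_num)]
      clear hw h3
      induction w with
      | nil => rfl
      | cons a w ih => simp only [eval, ih, one_mul]
  have hbot : wordSubgroup F' certCore48.subs = ⊥ := by
    rw [show certCore48.subs = [] from rfl, wordSubgroup]
    simp
  obtain ⟨hfin', hle'⟩ := card_le_of_checked (f := F') checkedCore48 (by decide +kernel)
    (by decide +kernel) hF' (by rw [hbot]; infer_instance)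
  rw [hbot, Subgroup.card_bot, mul_one] at hle'
  have hsub : wordSubgroup F C.subs ≤ genSub F' certCore48.k := by
    rw [hsubs, wordSubgroup, Subgroup.closure_le]
    rintro _ ⟨w, hw, rfl⟩
    have hlt : ∀ a ∈ w, a < 3 := (show ∀ w ∈ subWords, ∀ a ∈ w, a < 3 by decide) w hw
    rw [← eval_congr F' (f' := F) fun a ha => if_pos (hlt a ha)]
    exact eval_mem F' _ fun a ha => Subgroup.subset_closure
      ⟨a, (hlt a ha).trans (by decide : 3 < certCore48.k), rfl⟩
  haveI := hfin'
  have hfin : Finite (wordSubgroup F C.subs) :=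
    Finite.of_injective _ (Subgroup.inclusion_injective hsub)
  have h48 : Nat.card (wordSubgroup F C.subs) ≤ 48 :=
    (Nat.card_le_card_of_injective _ (Subgroup.inclusion_injective hsub)).trans hle'
  obtain ⟨hfinH, hleH⟩ := card_le_of_checked (f := F) K hw hsq hF hfin
  haveI := hfinH
  have hle : Nat.card (genSub F C.k) ≤ Nat.card M := by
    rw [hn]; exact hleH.trans (Nat.mul_le_mul_left _ h48)
  let p : genSub F C.k →* M := (MonoidHom.snd G M).comp (genSub F C.k).subtype
  let q : genSub F C.k →* G := (MonoidHom.fst G M).comp (genSub F C.k).subtype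
  have hp : Function.Surjective p := by
    rw [← MonoidHom.range_eq_top, eq_top_iff, ← hgen, Subgroup.closure_le]
    rintro _ ⟨g, hg, rfl⟩
    exact ⟨⟨F g, Subgroup.subset_closure ⟨g, by omega, rfl⟩⟩, rfl⟩
  have hpb : Function.Bijective p :=
    (Nat.bijective_iff_surjective_and_card p).mpr
      ⟨hp, le_antisymm hle (Nat.card_le_card_of_surjective p hp)⟩
  let e : genSub F C.k ≃* M := MulEquiv.ofBijective p hpb
  haveI : IsSimpleGroup (genSub F C.k) := e.isSimpleGroup
  have hqinj : Function.Injective q := by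
    rw [← MonoidHom.ker_eq_bot_iff]
    refine (Subgroup.Normal.eq_bot_or_eq_top inferInstance).resolve_right fun htop => ?_
    have h3 : (⟨F 3, Subgroup.subset_closure ⟨3, by omega, rfl⟩⟩ : genSub F C.k) ∈ q.ker := by
      rw [htop]; trivial
    exact H.mark_three_not_mem (by
      rw [show H.mark 3 = 1 from h3]; exact Subgroup.one_mem _)
  have hcard : Nat.card (genSub F C.k) = Nat.card G := by
    have hd : Nat.card (genSub F C.k) ∣ Nat.card G := Subgroup.card_dvd_of_injective q hqinj
    rw [Nat.card_congr e.toEquiv] at hd ⊢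
    rcases H.card with h | h <;> rcases hn' with h' | h' <;> rw [h, h'] at hd ⊢ <;> norm_num at hd
  exact ⟨(MulEquiv.ofBijective q ((Nat.bijective_iff_injective_and_card q).mpr ⟨hqinj, hcard⟩)).symm.trans e⟩

theorem card_l33 : Nat.card (Compute.genGroup S3412.vecCoding CommGraphData.l33Gens) = 5616 := by
  rw [Compute.card_genGroup S3412.vecCoding S3412.gensOK S3412.chain_ok, S3412.chain_size]

theorem isSimpleGroup_l33 :
    IsSimpleGroup (Compute.genGroup S3412.vecCoding CommGraphData.l33Gens) := by
  obtain ⟨e⟩ := S3412.exists_iso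
  have : IsSimpleGroup (Matrix.ProjectiveSpecialLinearGroup (Fin 3) (ZMod 3)) :=
    LinGroup.isSimpleGroup_PSL_fin (by norm_num) (by norm_num)
  exact e.isSimpleGroup

/-- The main result. -/
theorem classify {G : Type u} [Group G] [Finite G] {t : G} (H : Hyp t) :
    Nonempty (G ≃* Matrix.ProjectiveSpecialLinearGroup (Fin 3) (ZMod 3)) ∨
      Nonempty (G ≃* Compute.genGroup Compute.Mathieu.ptCoding Compute.Mathieu.m11Gens) := by
  haveI := isSimpleGroup_l33
  haveI := Compute.Mathieu.isSimpleGroup_m11
  rcases H.rels_cases with h | h | h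
  · obtain ⟨f', hM, hgen⟩ := markingB11
    obtain ⟨e⟩ := iso_of_checked H checkedB11 (by decide +kernel) rfl rfl (by decide +kernel)
      (by decide +kernel) h (by rw [card_l33]; decide +kernel) (Or.inl card_l33) f' hM hgen
    obtain ⟨i⟩ := S3412.exists_iso
    exact Or.inl ⟨e.trans i⟩
  · obtain ⟨f', hM, hgen⟩ := markingB17
    exact Or.inr (iso_of_checked H checkedB17 (by decide +kernel) rfl rfl (by decide +kernel)
      (by decide +kernel) h (by rw [Compute.Mathieu.card_m11]; decide +kernel)
      (Or.inr Compute.Mathieu.card_m11) f' hM hgen)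
  · obtain ⟨f', hM, hgen⟩ := markingC15
    exact Or.inr (iso_of_checked H checkedC15 (by decide +kernel) rfl rfl (by decide +kernel)
      (by decide +kernel) h (by rw [Compute.Mathieu.card_m11]; decide +kernel)
      (Or.inr Compute.Mathieu.card_m11) f' hM hgen)

end Cfsg.Agent.Lib.GLTwoThreeAmalgam
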