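import Mathlib
import Cfsg.Prelude.Def_Transfer
import Cfsg.Agent.Lib.GLTwoThreeAmalgam.Main

/-!
Entry points.
-/

set_option autoImplicit false

namespace Cfsg.Agent.Lib.GLTwoThreeAmalgam

open Cfsg.Agent.Lib.InvCentralizer

universe u

variable {G : Type u} [Group G] [Finite G]

theorem no_index_two_of_residual (h : Cfsg.pResidual 2 G = ⊤) (K : Subgroup G) : K.index ≠ 2 := by
  intro hK
  have htop : K = ⊤ := by
    rw [eq_top_iff, ← h, Cfsg.pResidual, Subgroup.closure_le]
    intro g hg
    obtain ⟨m, hm⟩ : Odd (orderOf g) := by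
      rw [← Nat.not_even_iff_odd, even_iff_two_dvd]
      exact (Nat.Prime.coprime_iff_not_dvd Nat.prime_two).mp (Nat.Coprime.symm hg)
    have h1 : g * g ∈ K := Subgroup.mul_self_mem_of_index_two hK g
    have h2 : (g * g) ^ (m + 1) = g := by
      rw [← pow_two, ← pow_mul, show 2 * (m + 1) = orderOf g + 1 by omega, pow_succ,
        pow_orderOf_eq_one, one_mul]
    exact h2 ▸ K.pow_mem h1 (m + 1)
  rw [htop, Subgroup.index_top] at hK
  omega

/-- The standing hypothesis from the absence of subgroups of index two. -/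
theorem nonempty_hyp (hno : ∀ K : Subgroup G, K.index ≠ 2) {t : G} (ht : orderOf t = 2)
    (e : Subgroup.centralizer ({t} : Set G) ≃* GLThree) : Nonempty (Hyp t) := by
  classical
  haveI := Fintype.ofFinite G
  haveI : Fintype (Subgroup.centralizer ({t} : Set G)) := Fintype.ofFinite _
  obtain ⟨hz1, hz2, hz3⟩ := tImage_props e ht
  have hz : tImage e = negOne := gl_model_facts _ hz1 hz2 hz3
  have hcard : Nat.card GLThree = 48 := card_GLThree
  haveI : Fact (Nat.Prime 2) := ⟨Nat.prime_two⟩
  obtain ⟨hconj, -, -⟩ := fusion_of_model e hno ht 3 genEight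
    (orderOf_eq_prime_pow (n := 2) (by decide +kernel) (by decide +kernel))
    ⟨4, by rw [hz]; decide +kernel⟩ (by rw [hz]; decide +kernel)
    (by rw [hcard]; decide) (by rw [hcard]; decide)
  exact ⟨⟨e, ht, hconj, card_of_gl_centralizer t ht hno e⟩⟩

end Cfsg.Agent.Lib.GLTwoThreeAmalgam
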