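import Mathlib
import Cfsg.Agent.Lib.InvCentralizer.GLTwoThreeMain

/-!
The standing hypothesis: one class of involutions, with centraliser the general linear group of
degree two over three elements. Facts read off from the model and elementary normaliser arithmetic.
-/

set_option autoImplicit false

namespace Cfsg.Agent.Lib.GLTwoThreeAmalgam

open Cfsg.Agent.Lib.InvCentralizer

universe u

variable {G : Type u} [Group G] [Finite G]

/-- The standing hypothesis. -/
structure Hyp (t : G) where
  /-- The centraliser in the model. -/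
  e : Subgroup.centralizer ({t} : Set G) ≃* GLThree
  ord : orderOf t = 2
  conj : ∀ u : G, orderOf u = 2 → IsConj u t
  card : Nat.card G = 5616 ∨ Nat.card G = 7920

theorem card_GLThree : Nat.card GLThree = 48 := by
  rw [Nat.card_eq_fintype_card]; decide +kernel

/-- The reflection `diag(1,-1)`. -/
def gS : GLThree := ⟨(1, 0, 0, 2), by decide⟩

/-- The reflection exchanging the two axes. -/
def gB : GLThree := ⟨(0, 1, 1, 0), by decide⟩

/-- A third reflection. -/
def gC : GLThree := ⟨(1, 2, 0, 2), by decide⟩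

theorem model_central :
    gS * gS = 1 ∧ gB * gB = 1 ∧ gS * gB * gS * gB = negOne ∧ negOne ≠ 1 ∧ gS ≠ 1 ∧ gS ≠ negOne ∧
      negOne * gS = gB * gS * gB ∧ ∀ m : GLThree, negOne * m = m * negOne := by
  decide +kernel

theorem model_pow_eight : ∀ g : GLThree, g ^ 8 = 1 → g ^ 4 = 1 ∨ g ^ 4 = negOne := by decide +kernel

theorem model_order_eight : genEight ^ 8 = 1 ∧ genEight ^ 4 ≠ 1 ∧ genEight ^ 4 = negOne := by
  decide +kernel

theorem model_pair : ∀ u : GLThree, u * u = 1 → ∀ v : GLThree, v * v = 1 →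
    (u * v) ^ 4 = 1 ∨ (u * v) ^ 6 = 1 := by
  decide +kernel

theorem model_swap : ∀ u : GLThree, u * u = 1 → u ≠ 1 → u ≠ negOne →
    ∃ w : GLThree, w * w = 1 ∧ w ≠ 1 ∧ w * u * w = negOne * u := by
  decide +kernel

theorem model_centraliser_gS : ∀ m : GLThree, m * gS = gS * m →
    m = 1 ∨ m = negOne ∨ m = gS ∨ m = negOne * gS := by
  decide +kernel

namespace Hyp

variable {t : G} (H : Hyp t)

theorem mem_t : t ∈ Subgroup.centralizer ({t} : Set G) :=
  Subgroup.mem_centralizer_singleton_iff.mpr rfl

theorem e_t : H.e ⟨t, mem_t⟩ = negOne := by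
  classical
  haveI := Fintype.ofFinite G
  haveI : Fintype (Subgroup.centralizer ({t} : Set G)) := Fintype.ofFinite _
  exact gl_model_facts _ (tImage_props H.e H.ord).1 (tImage_props H.e H.ord).2.1 (tImage_props H.e H.ord).2.2

include H in
theorem sq_t : t * t = 1 := by rw [← pow_two, ← H.ord, pow_orderOf_eq_one]

include H in
theorem ne_one : t ≠ 1 := fun h => by
  have := H.ord
  rw [h, orderOf_one] at this
  omega

include H in
theorem card_centralizer : Nat.card (Subgroup.centralizer ({t} : Set G)) = 48 := by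
  rw [Nat.card_congr H.e.toEquiv, card_GLThree]

include H in
theorem exists_to_t (z : G) (hz : orderOf z = 2) : ∃ g : G, g * z * g⁻¹ = t :=
  isConj_iff.mp (H.conj z hz)

include H in
/-- An element commuting with an involution has order dividing 48. -/
theorem orderOf_dvd {z x : G} (hz : orderOf z = 2) (h : z * x = x * z) : orderOf x ∣ 48 := by
  obtain ⟨g, hg⟩ := H.exists_to_t z hz
  have hmem : g * x * g⁻¹ ∈ Subgroup.centralizer ({t} : Set G) := by
    rw [Subgroup.mem_centralizer_singleton_iff, ← hg]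
    calc g * x * g⁻¹ * (g * z * g⁻¹) = g * (x * z) * g⁻¹ := by group
      _ = g * (z * x) * g⁻¹ := by rw [h]
      _ = g * z * g⁻¹ * (g * x * g⁻¹) := by group
  have h1 : orderOf (g * x * g⁻¹) = orderOf x :=
    orderOf_injective (MulAut.conj g).toMonoidHom (MulAut.conj g).injective x
  rw [← h1, ← Subgroup.orderOf_mk (g * x * g⁻¹) hmem, ← H.card_centralizer]
  exact orderOf_dvd_natCard _

include H in
theorem not_two_dvd_centralizer {x : G} (h : ¬ orderOf x ∣ 48) :
    ¬ 2 ∣ Nat.card (Subgroup.centralizer ({x} : Set G)) := fun h2 => by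
  haveI : Fact (Nat.Prime 2) := ⟨Nat.prime_two⟩
  obtain ⟨z, hz⟩ := exists_prime_orderOf_dvd_card' 2 h2
  rw [← Subgroup.orderOf_coe] at hz
  exact h (H.orderOf_dvd hz (Subgroup.mem_centralizer_singleton_iff.mp z.2))

include H in
theorem odd_centralizer_dvd {x : G} (h : ¬ orderOf x ∣ 48) {m : ℕ}
    (hm : Nat.card G = 16 * m) : Nat.card (Subgroup.centralizer ({x} : Set G)) ∣ m := by
  have h2 : Nat.Coprime (Nat.card (Subgroup.centralizer ({x} : Set G))) (2 ^ 4) :=
    Nat.Coprime.pow_right _
      ((Nat.Prime.coprime_iff_not_dvd Nat.prime_two).mpr (H.not_two_dvd_centralizer h)).symm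
  exact h2.dvd_of_dvd_mul_left (hm ▸ Subgroup.card_subgroup_dvd_card _)

end Hyp

/-- The normaliser of a cyclic subgroup modulo the centraliser acts faithfully on it. -/
theorem card_normalizer_zpowers_dvd (x : G) :
    Nat.card (Subgroup.normalizer ((Subgroup.zpowers x : Subgroup G) : Set G)) ∣
      Nat.card (Subgroup.centralizer ({x} : Set G)) * Nat.totient (orderOf x) := by
  classical
  set P := Subgroup.zpowers x
  set φ := P.normalizerMonoidHom
  have h1 := Subgroup.card_mul_index φ.ker
  rw [Subgroup.index_ker] at h1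
  rw [← h1]
  refine mul_dvd_mul ?_ ?_
  · rw [Subgroup.normalizerMonoidHom_ker]
    let f : (Subgroup.centralizer (P : Set G)).subgroupOf (Subgroup.normalizer (P : Set G)) →*
        Subgroup.centralizer ({x} : Set G) :=
      { toFun := fun z => ⟨((z : Subgroup.normalizer (P : Set G)) : G),
          Subgroup.mem_centralizer_singleton_iff.mpr
            ((Subgroup.mem_centralizer_iff.mp z.2 x (Subgroup.mem_zpowers x))).symm⟩
        map_one' := rfl
        map_mul' := fun _ _ => rfl }
    exact Subgroup.card_dvd_of_injective f fun a b h =>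
      Subtype.ext (Subtype.ext (Subtype.mk.inj h))
  · rw [← Nat.card_zpowers, ← IsCyclic.card_mulAut]
    exact Subgroup.card_subgroup_dvd_card _

theorem mem_normalizer_of_inverts {u x : G} (hu : u * u = 1) (h : u * x * u = x⁻¹) :
    u ∈ Subgroup.normalizer ((Subgroup.zpowers x : Subgroup G) : Set G) := by
  have hinv : u⁻¹ = u := inv_eq_of_mul_eq_one_right hu
  have hk : ∀ n ∈ Subgroup.zpowers x, u * n * u⁻¹ ∈ Subgroup.zpowers x := by
    rintro _ ⟨k, rfl⟩
    show u * x ^ k * u⁻¹ ∈ _
    rw [← conj_zpow, hinv, h]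
    exact Subgroup.zpow_mem _ (Subgroup.inv_mem _ (Subgroup.mem_zpowers x)) k
  rw [Subgroup.mem_normalizer_iff]
  refine fun n => ⟨hk n, fun hn => ?_⟩
  have := hk _ hn
  rwa [hinv, show u * (u * n * u) * u = (u * u) * n * (u * u) by group, hu, one_mul, mul_one] at this

theorem two_dvd_card_normalizer {u x : G} (hu : orderOf u = 2) (h : u * x * u = x⁻¹) :
    2 ∣ Nat.card (Subgroup.normalizer ((Subgroup.zpowers x : Subgroup G) : Set G)) := by
  have hm := mem_normalizer_of_inverts (by rw [← pow_two, ← hu, pow_orderOf_eq_one]) h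
  rw [← hu, ← Subgroup.orderOf_mk u hm]
  exact orderOf_dvd_natCard _

theorem centralizer_singleton_le (x : G) : Subgroup.centralizer ({x} : Set G) ≤
    Subgroup.normalizer ((Subgroup.zpowers x : Subgroup G) : Set G) := by
  intro z hz
  have hzx : Commute z x := Subgroup.mem_centralizer_singleton_iff.mp hz
  rw [Subgroup.mem_normalizer_iff]
  intro w
  constructor
  · rintro ⟨k, rfl⟩
    show z * x ^ k * z⁻¹ ∈ _
    rw [(hzx.zpow_right k).eq, mul_inv_cancel_right]
    exact Subgroup.zpow_mem _ (Subgroup.mem_zpowers x) k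
  · rintro ⟨k, hk⟩
    have : w = z⁻¹ * x ^ k * z := by rw [show x ^ k = z * w * z⁻¹ from hk]; group
    rw [this, mul_assoc, ← (hzx.zpow_right k).eq, inv_mul_cancel_left]
    exact Subgroup.zpow_mem _ (Subgroup.mem_zpowers x) k

/-- A cyclic Sylow subgroup: the data entering the Sylow congruence. -/
theorem exists_count {p : ℕ} [Fact p.Prime] {x : G} {k : ℕ} (hx : orderOf x = p ^ k)
    (hk : p ^ (k + 1) ∣ Nat.card G → False) :
    ∃ P : Sylow p G, (P : Subgroup G) = Subgroup.zpowers x ∧
      ∃ n : ℕ, Nat.card (Subgroup.normalizer ((Subgroup.zpowers x : Subgroup G) : Set G)) * n =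
        Nat.card G ∧ n % p = 1 ∧
        orderOf x ∣ Nat.card (Subgroup.normalizer ((Subgroup.zpowers x : Subgroup G) : Set G)) := by
  have hp : IsPGroup p (Subgroup.zpowers x) := IsPGroup.of_card (n := k) (by rw [Nat.card_zpowers, hx])
  obtain ⟨P, hP⟩ := hp.exists_le_sylow
  obtain ⟨j, hj⟩ := IsPGroup.iff_card.mp P.isPGroup'
  have hjk : j ≤ k := by
    by_contra hc
    exact hk ((pow_dvd_pow p (by omega : k + 1 ≤ j)).trans (hj ▸ Subgroup.card_subgroup_dvd_card _))
  have heq : (P : Subgroup G) = Subgroup.zpowers x :=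
    (Subgroup.eq_of_le_of_card_ge hP (by
      rw [hj, Nat.card_zpowers, hx]
      exact Nat.pow_le_pow_right (Nat.Prime.pos Fact.out) hjk)).symm
  refine ⟨P, heq, Nat.card (Sylow p G), ?_, ?_, ?_⟩
  · have e : (P : Set G) = ((Subgroup.zpowers x : Subgroup G) : Set G) := by
      rw [← heq]; rfl
    rw [Sylow.card_eq_index_normalizer P, e, Subgroup.card_mul_index]
  · have := card_sylow_modEq_one p G
    rw [Nat.ModEq, Nat.one_mod_eq_one.mpr (Nat.Prime.ne_one Fact.out)] at this
    exact this
  · rw [← Nat.card_zpowers]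
    exact Subgroup.card_dvd_of_le Subgroup.le_normalizer

end Cfsg.Agent.Lib.GLTwoThreeAmalgam
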