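import Mathlib
import Cfsg.Agent.Lib.GLTwoThreeAmalgam.Setup

/-!
Odd orders of products of two involutions.
-/

set_option autoImplicit false

namespace Cfsg.Agent.Lib.GLTwoThreeAmalgam

open Cfsg.Agent.Lib.InvCentralizer

universe u

theorem count_none {N n C p φ m q c : ℕ} (hC : C ∣ m) (hN : N ∣ C * φ) (hn : N * n = q) (h1 : n % p = 1)
    (hp : p ∣ N) (h2 : c ∣ N)
    (hk : ∀ d ∈ (m * φ).divisors, p ∣ d → c ∣ d → d ∣ q → (q / d) % p ≠ 1) (hm : m * φ ≠ 0)
    (hN0 : 0 < N) : False := by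
  refine hk N (Nat.mem_divisors.mpr ⟨hN.trans (mul_dvd_mul_right hC φ), hm⟩) hp h2 ⟨n, hn.symm⟩ ?_
  rw [← hn, Nat.mul_div_cancel_left _ hN0]
  exact h1

variable {G : Type u} [Group G] [Finite G] {t : G} (H : Hyp t)

namespace Hyp

include H in
theorem no_inverted_eleven (hG : Nat.card G = 7920) {x u : G} (hx : orderOf x = 11)
    (hu : orderOf u = 2) (h : u * x * u = x⁻¹) : False := by
  haveI : Fact (Nat.Prime 11) := ⟨by norm_num⟩
  obtain ⟨P, -, n, hn, h1, hp⟩ := exists_count (p := 11) (k := 1) (by rw [hx]; norm_num) (by rw [hG]; norm_num)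
  rw [hx] at hp
  refine count_none (H.odd_centralizer_dvd (x := x) (by rw [hx]; norm_num) (m := 495) (by rw [hG]))
    (φ := 10) ?_ (hn.trans hG) h1 hp (two_dvd_card_normalizer hu h) (by decide +kernel) (by norm_num)
    Nat.card_pos
  have := card_normalizer_zpowers_dvd x
  rwa [hx, Nat.totient_prime (by norm_num)] at this

include H in
theorem no_inverted_thirteen (hG : Nat.card G = 5616) {x u : G} (hx : orderOf x = 13)
    (hu : orderOf u = 2) (h : u * x * u = x⁻¹) : False := by
  haveI : Fact (Nat.Prime 13) := ⟨by norm_num⟩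
  obtain ⟨P, -, n, hn, h1, hp⟩ := exists_count (p := 13) (k := 1) (by rw [hx]; norm_num) (by rw [hG]; norm_num)
  rw [hx] at hp
  refine count_none (H.odd_centralizer_dvd (x := x) (by rw [hx]; norm_num) (m := 351) (by rw [hG]))
    (φ := 12) ?_ (hn.trans hG) h1 hp (two_dvd_card_normalizer hu h) (by decide +kernel) (by norm_num)
    Nat.card_pos
  have := card_normalizer_zpowers_dvd x
  rwa [hx, Nat.totient_prime (by norm_num)] at this

include H in
theorem not_dvd_centralizer_eleven (hG : Nat.card G = 7920) {x : G} (hx : orderOf x = 11) :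
    Nat.card (Subgroup.centralizer ({x} : Set G)) ∣ 55 := by
  haveI : Fact (Nat.Prime 11) := ⟨by norm_num⟩
  obtain ⟨P, -, n, hn, h1, hp⟩ := exists_count (p := 11) (k := 1) (by rw [hx]; norm_num) (by rw [hG]; norm_num)
  rw [hx] at hp
  have hd := H.odd_centralizer_dvd (x := x) (by rw [hx]; norm_num) (m := 495) (by rw [hG])
  have hN := card_normalizer_zpowers_dvd x
  rw [hx, Nat.totient_prime (by norm_num)] at hN
  set N := Nat.card (Subgroup.normalizer ((Subgroup.zpowers x : Subgroup G) : Set G)) with hNdef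
  have hCN : Nat.card (Subgroup.centralizer ({x} : Set G)) ∣ N :=
    Subgroup.card_dvd_of_le (centralizer_singleton_le x)
  have hkey : ∀ d ∈ (495 * 10).divisors, 11 ∣ d → d ∣ 7920 → (7920 / d) % 11 = 1 → d = 55 := by
    decide +kernel
  have : N = 55 := hkey N (Nat.mem_divisors.mpr ⟨hN.trans (mul_dvd_mul_right hd 10), by norm_num⟩) hp
    ⟨n, (hn.trans hG).symm⟩
    (by rw [← hn.trans hG, Nat.mul_div_cancel_left _ Nat.card_pos]; exact h1)
  exact this ▸ hCN

include H in
/-- Some Sylow 2-subgroup is normalised by no element of order five. -/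
theorem exists_sylow_no_five (hG : Nat.card G = 7920) : ∃ T : Sylow 2 G,
    ∀ y : G, orderOf y = 5 → y ∉ Subgroup.normalizer (T : Set G) := by
  haveI : Fact (Nat.Prime 2) := ⟨Nat.prime_two⟩
  obtain ⟨h8, h4, h4'⟩ := model_order_eight
  obtain ⟨r, hr⟩ : ∃ r : Subgroup.centralizer ({t} : Set G), r = H.e.symm genEight := ⟨_, rfl⟩
  have hr8 : (r : G) ^ 8 = 1 := by
    rw [hr, ← SubgroupClass.coe_pow, ← map_pow, h8, map_one]; rfl
  have hr4 : (r : G) ^ 4 = t := by
    rw [hr, ← SubgroupClass.coe_pow, ← map_pow, h4', ← H.e_t, MulEquiv.symm_apply_apply]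
  have hpr : IsPGroup 2 (Subgroup.zpowers r) := by
    refine IsPGroup.of_card (n := 3) ?_
    rw [Nat.card_zpowers, orderOf_eq_prime_pow (p := 2) (n := 2)]
    · intro h
      apply H.ne_one
      rw [← hr4, ← SubgroupClass.coe_pow, show r ^ 4 = 1 from by simpa using h]
      rfl
    · apply Subtype.ext
      simpa using hr8
  obtain ⟨Q, hQ⟩ := hpr.exists_le_sylow
  set D : Subgroup G := (Q : Subgroup (Subgroup.centralizer ({t} : Set G))).map
    (Subgroup.centralizer ({t} : Set G)).subtype with hDdef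
  have hD : Nat.card D = 16 := by
    rw [show Nat.card D = Nat.card (Q : Subgroup (Subgroup.centralizer ({t} : Set G))) from
      (Nat.card_congr (Subgroup.equivMapOfInjective _ _ (Subgroup.subtype_injective _)).toEquiv).symm,
      Q.card_eq_multiplicity, H.card_centralizer,
      show (48 : ℕ) = 2 ^ 4 * 3 by norm_num, Nat.factorization_mul (by norm_num) (by norm_num),
      Finsupp.add_apply, Nat.Prime.factorization_pow Nat.prime_two,
      Nat.Prime.factorization Nat.prime_three]
    simp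
  obtain ⟨T, hT⟩ := (IsPGroup.of_card (n := 4) (by rw [hD]; norm_num) : IsPGroup 2 D).exists_le_sylow
  have hTD : (T : Subgroup G) = D := by
    refine (Subgroup.eq_of_le_of_card_ge hT ?_).symm
    rw [hD, T.card_eq_multiplicity, hG, show (7920 : ℕ) = 2 ^ 4 * 495 by norm_num,
      Nat.factorization_mul (by norm_num) (by norm_num),
      Finsupp.add_apply, Nat.Prime.factorization_pow Nat.prime_two,
      Nat.factorization_eq_zero_of_not_dvd (show ¬ 2 ∣ 495 by norm_num)]
    simp
  refine ⟨T, fun y hy hn => ?_⟩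
  have hrD : (r : G) ∈ (T : Subgroup G) := by
    rw [hTD]; exact ⟨r, hQ (Subgroup.mem_zpowers r), rfl⟩
  have hzD : y * (r : G) * y⁻¹ ∈ (T : Subgroup G) :=
    (Subgroup.mem_normalizer_iff.mp hn (r : G)).mp hrD
  rw [hTD] at hzD
  obtain ⟨z, -, hz⟩ := hzD
  replace hz : (z : G) = y * (r : G) * y⁻¹ := hz
  have hz8 : z ^ 8 = 1 := by
    apply Subtype.ext
    show (z : G) ^ 8 = 1
    rw [hz, conj_pow, hr8]
    group
  have hz4 : (z : G) ^ 4 = y * t * y⁻¹ := by rw [hz, conj_pow, hr4]
  have hcase := model_pow_eight (H.e z) (by rw [← map_pow, hz8, map_one])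
  rw [← map_pow, ← H.e_t, map_eq_one_iff H.e H.e.injective, H.e.injective.eq_iff] at hcase
  have hval : (z : G) ^ 4 = 1 ∨ (z : G) ^ 4 = t :=
    hcase.imp (fun h => congrArg Subtype.val h) (fun h => congrArg Subtype.val h)
  rw [hz4] at hval
  rcases hval with h | h
  · exact H.ne_one (conj_eq_one_iff.mp h)
  · have hc : t * y = y * t := by
      conv_lhs => rw [← h]
      group
    have := H.orderOf_dvd H.ord hc
    rw [hy] at this
    norm_num at this

include H in
theorem all_involutions_in_of_coprime {K : Subgroup G} [K.Normal] (hK : ¬ 2 ∣ K.index) {z : G}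
    (hz : z * z = 1) : z ∈ K := by
  rw [← QuotientGroup.eq_one_iff]
  refine orderOf_eq_one_iff.mp ?_
  have h1 : orderOf (z : G ⧸ K) ∣ 2 := orderOf_dvd_of_pow_eq_one (by
    rw [pow_two, ← QuotientGroup.mk_mul, hz]; rfl)
  have h2 : orderOf (z : G ⧸ K) ∣ K.index := orderOf_dvd_natCard _
  rcases (Nat.dvd_prime Nat.prime_two).mp h1 with h | h
  · exact h
  · exact absurd (h ▸ h2) hK

include H in
theorem not_three_dvd_centralizer_five (hG : Nat.card G = 7920) {x : G} (hx : orderOf x = 5) :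
    ¬ 3 ∣ Nat.card (Subgroup.centralizer ({x} : Set G)) := by
  intro h3
  haveI : Fact (Nat.Prime 5) := ⟨by norm_num⟩
  haveI : Fact (Nat.Prime 2) := ⟨Nat.prime_two⟩
  obtain ⟨P, hP, n, hn, h1, hp⟩ := exists_count (p := 5) (k := 1) (by rw [hx]; norm_num) (by rw [hG]; norm_num)
  rw [hx] at hp
  set C := Nat.card (Subgroup.centralizer ({x} : Set G)) with hCdef
  set N := Nat.card (Subgroup.normalizer ((Subgroup.zpowers x : Subgroup G) : Set G)) with hNdef
  have hd : C ∣ 495 := H.odd_centralizer_dvd (x := x) (by rw [hx]; norm_num) (m := 495) (by rw [hG])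
  have hN := card_normalizer_zpowers_dvd x
  rw [hx, Nat.totient_prime (by norm_num)] at hN
  have hCle := centralizer_singleton_le x
  have hkey : ∀ c ∈ (495 : ℕ).divisors, ∀ d ∈ (c * 4).divisors, c ∣ d → 3 ∣ c → 5 ∣ d → d ∣ 7920 →
      (7920 / d) % 5 = 1 → d = c := by decide +kernel
  have hNC : N = C := hkey C (Nat.mem_divisors.mpr ⟨hd, by norm_num⟩) N
    (Nat.mem_divisors.mpr ⟨hN, Nat.mul_ne_zero Nat.card_pos.ne' (by norm_num)⟩)
    (Subgroup.card_dvd_of_le hCle) h3 hp ⟨n, (hn.trans hG).symm⟩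
    (by rw [← hn.trans hG, Nat.mul_div_cancel_left _ Nat.card_pos]; exact h1)
  have heq := Subgroup.eq_of_le_of_card_ge hCle (le_of_eq (hNdef.symm.trans hNC))
  have hle : Subgroup.normalizer (P : Set G) ≤ Subgroup.centralizer (P : Set G) := by
    have e : (P : Set G) = ((Subgroup.zpowers x : Subgroup G) : Set G) := by rw [← hP]; rfl
    rw [e, ← heq, Subgroup.zpowers_eq_closure, Subgroup.centralizer_closure]
  have hc5 := (MonoidHom.ker_transferSylow_isComplement' P hle).symm.index_eq_card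
  set K := (MonoidHom.transferSylow P hle).ker with hKdef
  have hKi : K.index = 5 := by
    rw [hc5]
    show Nat.card (P : Subgroup G) = 5
    rw [hP, Nat.card_zpowers, hx]
  obtain ⟨T, hT⟩ := H.exists_sylow_no_five hG
  have hTK : (T : Subgroup G) ≤ K := by
    intro z hz
    rw [← QuotientGroup.eq_one_iff]
    obtain ⟨j, hj⟩ := IsPGroup.iff_orderOf.mp T.isPGroup' ⟨z, hz⟩
    rw [Subgroup.orderOf_mk] at hj
    refine orderOf_eq_one_iff.mp ?_
    have d1 : orderOf (z : G ⧸ K) ∣ 2 ^ j := hj ▸ orderOf_map_dvd (QuotientGroup.mk' K) z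
    have d2 : orderOf (z : G ⧸ K) ∣ 5 :=
      (orderOf_dvd_natCard (z : G ⧸ K)).trans (dvd_of_eq hKi)
    exact Nat.eq_one_of_dvd_coprimes (Nat.Coprime.pow_left j (by norm_num)) d1 d2
  have hsup := Sylow.normalizer_sup_eq_top' T hTK
  let φ : Subgroup.normalizer (T : Set G) →* G ⧸ K :=
    (QuotientGroup.mk' K).comp (Subgroup.normalizer (T : Set G)).subtype
  have hsurj : Function.Surjective φ := by
    intro q
    obtain ⟨z, rfl⟩ := QuotientGroup.mk'_surjective K q
    have hz : z ∈ Subgroup.normalizer (T : Set G) ⊔ K := by rw [hsup]; trivial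
    rw [← SetLike.mem_coe, Subgroup.mul_normal] at hz
    obtain ⟨a, ha, k, hk, rfl⟩ := hz
    exact ⟨⟨a, ha⟩, by simp [φ, (QuotientGroup.eq_one_iff k).mpr hk]⟩
  have h5 : 5 ∣ Nat.card (Subgroup.normalizer (T : Set G)) := by
    rw [← hKi, Subgroup.index]
    exact Subgroup.card_dvd_of_surjective φ hsurj
  obtain ⟨y, hy⟩ := exists_prime_orderOf_dvd_card' 5 h5
  rw [← Subgroup.orderOf_coe] at hy
  exact hT _ hy y.2

end Hyp

end Cfsg.Agent.Lib.GLTwoThreeAmalgam
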