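import Mathlib
import Cfsg.Agent.Lib.GLTwoThreeAmalgam.Spectrum
import Cfsg.Agent.Lib.GLTwoThreeAmalgam.CubeRoots

/-!
The orders of products of two involutions.
-/

set_option autoImplicit false

namespace Cfsg.Agent.Lib.GLTwoThreeAmalgam

open Cfsg.Agent.Lib.InvCentralizer

universe u

variable {G : Type u} [Group G] [Finite G] {t : G} (H : Hyp t)

theorem card_centralizer_dvd_of_pow (x : G) (k : ℕ) :
    Nat.card (Subgroup.centralizer ({x} : Set G)) ∣
      Nat.card (Subgroup.centralizer ({x ^ k} : Set G)) := by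
  apply Subgroup.card_dvd_of_le
  intro z hz
  exact Subgroup.mem_centralizer_singleton_iff.mpr
    (Commute.pow_right (Subgroup.mem_centralizer_singleton_iff.mp hz) k)

theorem orderOf_dvd_card_centralizer (x : G) :
    orderOf x ∣ Nat.card (Subgroup.centralizer ({x} : Set G)) := by
  rw [← Subgroup.orderOf_mk (H := Subgroup.centralizer ({x} : Set G)) x
    (Subgroup.mem_centralizer_singleton_iff.mpr rfl)]
  exact orderOf_dvd_natCard _

namespace Hyp

include H in
theorem no_order_nine (hG : Nat.card G = 7920) {x : G} (hx : orderOf x = 9) : False := by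
  haveI : Fact (Nat.Prime 3) := ⟨Nat.prime_three⟩
  obtain ⟨P, hP, n, hn, h1, hp⟩ := exists_count (p := 3) (k := 2) (by rw [hx]; norm_num)
    (by rw [hG]; norm_num)
  rw [hx] at hp
  set C := Nat.card (Subgroup.centralizer ({x} : Set G)) with hCdef
  set N := Nat.card (Subgroup.normalizer ((Subgroup.zpowers x : Subgroup G) : Set G)) with hNdef
  have hd : C ∣ 495 := H.odd_centralizer_dvd (x := x) (by rw [hx]; norm_num) (m := 495) (by rw [hG])
  have h9 : 9 ∣ C := hx ▸ orderOf_dvd_card_centralizer x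
  have h5 : ¬ 5 ∣ C := fun h5 => by
    haveI : Fact (Nat.Prime 5) := ⟨by norm_num⟩
    obtain ⟨y, hy⟩ := exists_prime_orderOf_dvd_card' 5 h5
    rw [← Subgroup.orderOf_coe] at hy
    apply H.not_three_dvd_centralizer_five hG hy
    have hmem : x ∈ Subgroup.centralizer ({(y : G)} : Set G) :=
      Subgroup.mem_centralizer_singleton_iff.mpr (Subgroup.mem_centralizer_singleton_iff.mp y.2).symm
    have h3 : (3 : ℕ) ∣ orderOf x := by rw [hx]; norm_num
    exact h3.trans (Subgroup.orderOf_mk x hmem ▸ orderOf_dvd_natCard _)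
  have h11 : ¬ 11 ∣ C := fun h11 => by
    haveI : Fact (Nat.Prime 11) := ⟨by norm_num⟩
    obtain ⟨y, hy⟩ := exists_prime_orderOf_dvd_card' 11 h11
    rw [← Subgroup.orderOf_coe] at hy
    have hmem : x ∈ Subgroup.centralizer ({(y : G)} : Set G) :=
      Subgroup.mem_centralizer_singleton_iff.mpr (Subgroup.mem_centralizer_singleton_iff.mp y.2).symm
    have := (Subgroup.orderOf_mk x hmem ▸ orderOf_dvd_natCard _ : orderOf x ∣ _).trans
      (H.not_dvd_centralizer_eleven hG hy)
    rw [hx] at this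
    norm_num at this
  have hC9 : C = 9 := (show ∀ c ∈ (495 : ℕ).divisors, 9 ∣ c → ¬ 5 ∣ c → ¬ 11 ∣ c → c = 9 by
    decide +kernel) C (Nat.mem_divisors.mpr ⟨hd, by norm_num⟩) h9 h5 h11
  have hN := card_normalizer_zpowers_dvd x
  rw [hx, show Nat.totient 9 = 6 by decide, ← hCdef, hC9] at hN
  have hN9 : N = 9 := (show ∀ d ∈ (54 : ℕ).divisors, 9 ∣ d → d ∣ 7920 → (7920 / d) % 3 = 1 → d = 9 by
    decide +kernel) N (Nat.mem_divisors.mpr ⟨hN, by norm_num⟩) hp ⟨n, (hn.trans hG).symm⟩
    (by rw [← hn.trans hG, Nat.mul_div_cancel_left _ Nat.card_pos]; exact h1)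
  have heq := Subgroup.eq_of_le_of_card_ge (centralizer_singleton_le x)
    (le_of_eq (hNdef.symm.trans (hN9.trans hC9.symm)))
  have hle : Subgroup.normalizer (P : Set G) ≤ Subgroup.centralizer (P : Set G) := by
    have e : (P : Set G) = ((Subgroup.zpowers x : Subgroup G) : Set G) := by rw [← hP]; rfl
    rw [e, ← heq, Subgroup.zpowers_eq_closure, Subgroup.centralizer_closure]
  have hK := (MonoidHom.ker_transferSylow_isComplement' P hle).symm.index_eq_card
  set K := (MonoidHom.transferSylow P hle).ker with hKdef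
  have hKi : K.index = 9 := by
    rw [hK]
    show Nat.card (P : Subgroup G) = 9
    rw [hP, Nat.card_zpowers, hx]
  have hinv : ∀ z : G, z * z = 1 → z ∈ K := fun z hz =>
    H.all_involutions_in_of_coprime (by rw [hKi]; norm_num) hz
  have hCK : Subgroup.centralizer ({t} : Set G) ≤ K := by
    intro g hg
    have hgen : ∀ m : GLThree, ((H.e.symm m : Subgroup.centralizer ({t} : Set G)) : G) ∈ K := by
      have hall : ∀ m : GLThree, ∃ a b c : GLThree, a * a = 1 ∧ b * b = 1 ∧ c * c = 1 ∧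
          ∃ a' b' : GLThree, a' * a' = 1 ∧ b' * b' = 1 ∧ m = a * b * c * a' * b' := by
        decide +kernel
      intro m
      obtain ⟨a, b, c, ha, hb, hc, a', b', ha', hb', rfl⟩ := hall m
      have inv : ∀ z : GLThree, z * z = 1 →
          ((H.e.symm z : Subgroup.centralizer ({t} : Set G)) : G) ∈ K := fun z hz => hinv _ (by
        rw [← Subgroup.coe_mul, ← map_mul, hz, map_one]; rfl)
      simp only [map_mul, Subgroup.coe_mul]
      exact K.mul_mem (K.mul_mem (K.mul_mem (K.mul_mem (inv a ha) (inv b hb)) (inv c hc)) (inv a' ha'))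
        (inv b' hb')
    simpa using hgen (H.e ⟨g, hg⟩)
  have h48 := Subgroup.card_dvd_of_le hCK
  have hcK := Subgroup.card_mul_index K
  rw [hKi, hG] at hcK
  rw [H.card_centralizer, show Nat.card K = 880 by omega] at h48
  norm_num at h48

include H in
theorem no_inverted_nine (hG : Nat.card G = 5616) {x u : G} (hx : orderOf x = 9)
    (hu : orderOf u = 2) (h : u * x * u = x⁻¹) : False := by
  haveI : Fact (Nat.Prime 3) := ⟨Nat.prime_three⟩
  haveI : Fact (Nat.Prime 2) := ⟨Nat.prime_two⟩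
  have hpx : IsPGroup 3 (Subgroup.zpowers x) := IsPGroup.of_card (n := 2) (by rw [Nat.card_zpowers, hx]; norm_num)
  obtain ⟨P, hP⟩ := hpx.exists_le_sylow
  have hxP : x ∈ (P : Subgroup G) := hP (Subgroup.mem_zpowers x)
  have hcP : Nat.card (P : Subgroup G) = 27 := by
    rw [P.card_eq_multiplicity, hG, show (5616 : ℕ) = 3 ^ 3 * 208 by norm_num,
      Nat.factorization_mul (by norm_num) (by norm_num), Finsupp.add_apply,
      Nat.Prime.factorization_pow Nat.prime_three,
      Nat.factorization_eq_zero_of_not_dvd (show ¬ 3 ∣ 208 by norm_num)]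
    simp
  set N := Subgroup.normalizer ((Subgroup.zpowers x : Subgroup G) : Set G) with hNdef
  -- the centraliser of `x` is a 3-group
  have hd : Nat.card (Subgroup.centralizer ({x} : Set G)) ∣ 351 :=
    H.odd_centralizer_dvd (x := x) (by rw [hx]; norm_num) (m := 351) (by rw [hG])
  have h13 : ¬ 13 ∣ Nat.card (Subgroup.centralizer ({x} : Set G)) := fun h13 => by
    haveI : Fact (Nat.Prime 13) := ⟨by norm_num⟩
    obtain ⟨y, hy⟩ := exists_prime_orderOf_dvd_card' 13 h13
    rw [← Subgroup.orderOf_coe] at hy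
    obtain ⟨Q, -, n, hn, h1, hp⟩ := exists_count (p := 13) (k := 1) (x := (y : G))
      (by rw [hy]; norm_num) (by rw [hG]; norm_num)
    rw [hy] at hp
    have hN := card_normalizer_zpowers_dvd (y : G)
    rw [hy, Nat.totient_prime (by norm_num)] at hN
    have hd' := H.odd_centralizer_dvd (x := (y : G)) (by rw [hy]; norm_num) (m := 351) (by rw [hG])
    have hmem : x ∈ Subgroup.centralizer ({(y : G)} : Set G) :=
      Subgroup.mem_centralizer_singleton_iff.mpr (Subgroup.mem_centralizer_singleton_iff.mp y.2).symm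
    have h9 : 9 ∣ Nat.card (Subgroup.normalizer ((Subgroup.zpowers (y : G) : Subgroup G) : Set G)) := by
      rw [← hx, ← Subgroup.orderOf_mk x hmem]
      exact (orderOf_dvd_natCard _).trans (Subgroup.card_dvd_of_le (centralizer_singleton_le (y : G)))
    exact count_none hd' hN (hn.trans hG) h1 hp h9 (by decide +kernel) (by norm_num) Nat.card_pos
  have hd' : Nat.card (Subgroup.centralizer ({x} : Set G)) ∣ 27 := by
    have h : Nat.Coprime (Nat.card (Subgroup.centralizer ({x} : Set G))) 13 :=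
      ((Nat.Prime.coprime_iff_not_dvd (by norm_num : Nat.Prime 13)).mpr h13).symm
    exact h.dvd_of_dvd_mul_left (by simpa using hd)
  have hN54 : Nat.card N ∣ 54 := by
    have hN := card_normalizer_zpowers_dvd x
    rw [hx, show Nat.totient 9 = 6 by decide] at hN
    have h1 : Nat.card N ∣ 162 := hN.trans (by simpa using mul_dvd_mul_right hd' 6)
    have h2 : Nat.card N ∣ 5616 := hG ▸ Subgroup.card_subgroup_dvd_card _
    exact (show Nat.gcd 162 5616 = 54 by norm_num) ▸ Nat.dvd_gcd h1 h2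
  -- `P` normalises `⟨x⟩`
  have hidx : ((Subgroup.zpowers x).subgroupOf (P : Subgroup G)).index =
      (Nat.card (P : Subgroup G)).minFac := by
    have h1 := Subgroup.card_mul_index ((Subgroup.zpowers x).subgroupOf (P : Subgroup G))
    rw [Nat.card_congr (Subgroup.subgroupOfEquivOfLe hP).toEquiv, Nat.card_zpowers, hx, hcP] at h1
    rw [hcP, show Nat.minFac 27 = 3 by norm_num]
    omega
  have hnor := Subgroup.normal_of_index_eq_minFac_card hidx
  have hPN : (P : Subgroup G) ≤ N := by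
    intro g hg
    rw [hNdef, Subgroup.mem_normalizer_iff]
    intro w
    constructor
    · intro hw
      exact hnor.conj_mem ⟨w, hP hw⟩ hw ⟨g, hg⟩
    · intro hw
      have := hnor.conj_mem ⟨g * w * g⁻¹, hP hw⟩ hw ⟨g⁻¹, (P : Subgroup G).inv_mem hg⟩
      simpa [Subgroup.mem_subgroupOf, mul_assoc] using this
  have huN : u ∈ N := mem_normalizer_of_inverts (by rw [← pow_two, ← hu, pow_orderOf_eq_one]) h
  have hN2 : Nat.card N = 54 := by
    have h27 : 27 ∣ Nat.card N := hcP ▸ Subgroup.card_dvd_of_le hPN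
    have h2 : 2 ∣ Nat.card N := two_dvd_card_normalizer hu h
    exact Nat.dvd_antisymm hN54 (Nat.Coprime.mul_dvd_of_dvd_of_dvd (by norm_num) h27 h2)
  have hPi : ((P : Subgroup G).subgroupOf N).index = 2 := by
    have h1 := Subgroup.card_mul_index ((P : Subgroup G).subgroupOf N)
    rw [Nat.card_congr (Subgroup.subgroupOfEquivOfLe hPN).toEquiv, hcP, hN2] at h1
    omega
  have hnorP := Subgroup.normal_of_index_eq_two hPi
  have huP : u ∈ Subgroup.normalizer (P : Set G) := by
    refine Subgroup.mem_normalizer_iff.mpr ?_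
    intro w
    constructor
    · intro hw
      exact hnorP.conj_mem ⟨w, hPN hw⟩ hw ⟨u, huN⟩
    · intro hw
      have := hnorP.conj_mem ⟨u * w * u⁻¹, hPN hw⟩ hw ⟨u⁻¹, N.inv_mem huN⟩
      simpa [Subgroup.mem_subgroupOf, mul_assoc] using this
  -- the normaliser of `P` has order divisible by four
  set M := Subgroup.normalizer (P : Set G) with hMdef
  have h4 : 4 ∣ Nat.card M := by
    have hn : Nat.card M * Nat.card (Sylow 3 G) = 5616 := by
      rw [Sylow.card_eq_index_normalizer P, Subgroup.card_mul_index, hG]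
    have h1 : Nat.card (Sylow 3 G) % 3 = 1 := by
      have := card_sylow_modEq_one 3 G
      rwa [Nat.ModEq] at this
    have h2 : 2 ∣ Nat.card M := by
      rw [← hu, ← Subgroup.orderOf_mk u huP]; exact orderOf_dvd_natCard _
    exact (show ∀ d ∈ (5616 : ℕ).divisors, 2 ∣ d → 27 ∣ d → (5616 / d) % 3 = 1 → 4 ∣ d by decide +kernel)
      _ (Nat.mem_divisors.mpr ⟨⟨_, hn.symm⟩, by norm_num⟩) h2
      (hcP ▸ Subgroup.card_dvd_of_le Subgroup.le_normalizer)
      (by rw [← hn, Nat.mul_div_cancel_left _ Nat.card_pos]; exact h1)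
  have hy3 : orderOf (x ^ 3) = 3 := by rw [orderOf_pow' x (by norm_num), hx]; rfl
  -- it normalises the subgroup of the cube
  have hMy : M ≤ Subgroup.normalizer ((Subgroup.zpowers (x ^ 3) : Subgroup G) : Set G) := by
    have hk : ∀ g ∈ M, ∀ w ∈ Subgroup.zpowers (x ^ 3), g * w * g⁻¹ ∈ Subgroup.zpowers (x ^ 3) := by
      intro g hg
      have hgx : g * x * g⁻¹ ∈ (P : Subgroup G) := (Subgroup.mem_normalizer_iff.mp hg x).mp hxP
      have hc := cube_mem_zpowers hcP (x := ⟨x, hxP⟩) (by rw [Subgroup.orderOf_mk, hx])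
        (z := ⟨g * x * g⁻¹, hgx⟩) (by
          rw [Subgroup.orderOf_mk, show g * x * g⁻¹ = (MulAut.conj g).toMonoidHom x from rfl,
            orderOf_injective _ (MulAut.conj g).injective, hx])
      obtain ⟨k, hk⟩ := hc
      have hk' : (x ^ 3) ^ k = (g * x * g⁻¹) ^ 3 := congrArg Subtype.val hk
      rw [conj_pow] at hk'
      rintro _ ⟨j, rfl⟩
      show g * (x ^ 3) ^ j * g⁻¹ ∈ _
      rw [← conj_zpow, ← hk', ← zpow_mul]
      exact ⟨_, rfl⟩
    intro g hg
    rw [Subgroup.mem_normalizer_iff]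
    intro w
    refine ⟨hk g hg w, fun hw => ?_⟩
    simpa [mul_assoc] using hk g⁻¹ (M.inv_mem hg) _ hw
  obtain ⟨v, hvo, hvP, hvy⟩ : ∃ v : G, orderOf v = 2 ∧ v ∈ M ∧ v * x ^ 3 = x ^ 3 * v := by
    set Y := Subgroup.zpowers (x ^ 3)
    let φ : M →* MulAut Y := Y.normalizerMonoidHom.comp (Subgroup.inclusion hMy)
    have hr : Nat.card φ.range ∣ 2 := by
      refine (Subgroup.card_subgroup_dvd_card _).trans (dvd_of_eq ?_)
      rw [IsCyclic.card_mulAut, Nat.card_zpowers, hy3]
      rfl
    have hk := Subgroup.card_mul_index φ.ker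
    rw [Subgroup.index_ker] at hk
    have h2 : 2 ∣ Nat.card φ.ker := by
      rcases (Nat.dvd_prime Nat.prime_two).mp hr with e | e <;> rw [e] at hk <;> omega
    obtain ⟨v, hv⟩ := exists_prime_orderOf_dvd_card' 2 h2
    refine ⟨((v : M) : G), by rw [Subgroup.orderOf_coe, Subgroup.orderOf_coe, hv], (v : M).2, ?_⟩
    have hker : φ (v : M) = 1 := v.2
    have hv' : Subgroup.inclusion hMy (v : M) ∈ Y.normalizerMonoidHom.ker := hker
    rw [Subgroup.normalizerMonoidHom_ker] at hv'
    exact (Subgroup.mem_centralizer_iff.mp hv' (x ^ 3) (Subgroup.mem_zpowers _)).symm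
  -- it fixes a cube root
  have hvv : v * v = 1 := by rw [← pow_two, ← hvo, pow_orderOf_eq_one]
  have hvi : v⁻¹ = v := inv_eq_of_mul_eq_one_right hvv
  let S := {z : (P : Subgroup G) // z ^ 3 = (⟨x, hxP⟩ : (P : Subgroup G)) ^ 3}
  classical
  haveI : Fintype S := Fintype.ofFinite S
  let σ : Equiv.Perm S := Function.Involutive.toPerm
    (fun z => ⟨⟨v * z.1 * v⁻¹, (Subgroup.mem_normalizer_iff.mp hvP _).mp z.1.2⟩, Subtype.ext (by
      show (v * (z.1 : G) * v⁻¹) ^ 3 = x ^ 3
      rw [conj_pow, show ((z.1 : G)) ^ 3 = x ^ 3 from congrArg Subtype.val z.2, hvy,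
        mul_inv_cancel_right])⟩)
    (fun z => Subtype.ext (Subtype.ext (by
      show v * (v * (z.1 : G) * v⁻¹) * v⁻¹ = z.1
      rw [hvi, show v * (v * (z.1 : G) * v) * v = (v * v) * z.1 * (v * v) by group, hvv, one_mul,
        mul_one])))
  have hodd : ¬ 2 ∣ Fintype.card S := by
    rw [← Nat.card_eq_fintype_card]
    exact Nat.two_dvd_ne_zero.mpr (Nat.odd_iff.mp (odd_card_cubeRoots hcP ⟨x, hxP⟩))
  obtain ⟨z, hz⟩ := Equiv.Perm.exists_fixed_point_of_prime (p := 2) (n := 1) hodd (σ := σ) (by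
    ext z; simp [σ, pow_two, Function.Involutive.toPerm, hvi]
    show v * (v * (z.1 : G) * v) * v = z.1
    rw [show v * (v * (z.1 : G) * v) * v = (v * v) * z.1 * (v * v) by group, hvv, one_mul, mul_one])
  have hzv : v * (z.1 : G) * v⁻¹ = z.1 := congrArg (fun w : S => ((w.1 : (P : Subgroup G)) : G)) hz
  have hz9 : orderOf ((z.1 : G)) = 9 := by
    have hz3 : ((z.1 : G)) ^ 3 = x ^ 3 := congrArg Subtype.val z.2
    rw [show (9 : ℕ) = 3 ^ (1 + 1) by norm_num]
    refine orderOf_eq_prime_pow ?_ ?_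
    · rw [pow_one, hz3]
      intro e
      rw [e, orderOf_one] at hy3
      omega
    · rw [show 3 ^ (1 + 1) = 3 * 3 by norm_num, pow_mul, hz3, ← pow_mul, ← pow_orderOf_eq_one x, hx]
  have := H.orderOf_dvd hvo (show v * (z.1 : G) = z.1 * v by
    conv_rhs => rw [← hzv]
    group)
  rw [hz9] at this
  norm_num at this

include H in
theorem odd_order_inverted {x u : G} (hu : orderOf u = 2) (h : u * x * u = x⁻¹)
    (hodd : ¬ 2 ∣ orderOf x) : x ^ 5 = 1 ∨ x ^ 3 = 1 := by
  have huu : u * u = 1 := by rw [← pow_two, ← hu, pow_orderOf_eq_one]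
  have hui : u⁻¹ = u := inv_eq_of_mul_eq_one_right huu
  have hpow : ∀ k : ℕ, u * x ^ k * u = (x ^ k)⁻¹ := fun k => by
    rw [← inv_pow, ← h, show u * x * u = u * x * u⁻¹ by rw [hui], conj_pow, hui]
  have hsub : ∀ q, q ∣ orderOf x → ∃ k, orderOf (x ^ k) = q := fun q hq => by
    refine ⟨orderOf x / q, ?_⟩
    obtain ⟨c, hc⟩ := hq
    have hq0 : q ≠ 0 := fun e => (orderOf_pos x).ne' (by rw [hc, e, zero_mul])
    have hc0 : c ≠ 0 := fun e => (orderOf_pos x).ne' (by rw [hc, e, mul_zero])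
    rw [hc, Nat.mul_div_cancel_left _ (Nat.pos_of_ne_zero hq0), orderOf_pow' x hc0, hc,
      Nat.gcd_mul_left_left, Nat.mul_div_cancel _ (Nat.pos_of_ne_zero hc0)]
  rcases H.card with hG | hG
  · have hd : orderOf x ∣ 351 := by
      have h2 : Nat.Coprime (orderOf x) (2 ^ 4) := Nat.Coprime.pow_right _
        ((Nat.Prime.coprime_iff_not_dvd Nat.prime_two).mpr hodd).symm
      exact h2.dvd_of_dvd_mul_left (by simpa [hG] using orderOf_dvd_natCard x)
    have h13 : ¬ 13 ∣ orderOf x := fun hq =>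
      have ⟨k, hk⟩ := hsub _ hq
      H.no_inverted_thirteen hG hk hu (hpow k)
    have h9 : ¬ 9 ∣ orderOf x := fun hq =>
      have ⟨k, hk⟩ := hsub _ hq
      H.no_inverted_nine hG hk hu (hpow k)
    have := (show ∀ c ∈ (351 : ℕ).divisors, ¬ 13 ∣ c → ¬ 9 ∣ c → c ∣ 3 by decide +kernel) _
      (Nat.mem_divisors.mpr ⟨hd, by norm_num⟩) h13 h9
    exact Or.inr (orderOf_dvd_iff_pow_eq_one.mp this)
  · have hd : orderOf x ∣ 495 := by
      have h2 : Nat.Coprime (orderOf x) (2 ^ 4) := Nat.Coprime.pow_right _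
        ((Nat.Prime.coprime_iff_not_dvd Nat.prime_two).mpr hodd).symm
      exact h2.dvd_of_dvd_mul_left (by simpa [hG] using orderOf_dvd_natCard x)
    have h11 : ¬ 11 ∣ orderOf x := fun hq =>
      have ⟨k, hk⟩ := hsub _ hq
      H.no_inverted_eleven hG hk hu (hpow k)
    have h9 : ¬ 9 ∣ orderOf x := fun hq =>
      have ⟨k, hk⟩ := hsub _ hq
      H.no_order_nine hG hk
    have h15 : ¬ 15 ∣ orderOf x := fun hq => by
      obtain ⟨k, hk⟩ := hsub _ hq
      have h5 : orderOf ((x ^ k) ^ 3) = 5 := by rw [orderOf_pow' _ (by norm_num), hk]; rfl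
      apply H.not_three_dvd_centralizer_five hG h5
      refine (?_ : 3 ∣ Nat.card (Subgroup.centralizer ({x ^ k} : Set G))).trans
        (card_centralizer_dvd_of_pow _ 3)
      exact (show (3 : ℕ) ∣ orderOf (x ^ k) by rw [hk]; norm_num).trans
        (orderOf_dvd_card_centralizer _)
    have := (show ∀ c ∈ (495 : ℕ).divisors, ¬ 11 ∣ c → ¬ 9 ∣ c → ¬ 15 ∣ c → c ∣ 5 ∨ c ∣ 3 by
      decide +kernel) _ (Nat.mem_divisors.mpr ⟨hd, by norm_num⟩) h11 h9 h15
    exact this.imp orderOf_dvd_iff_pow_eq_one.mp orderOf_dvd_iff_pow_eq_one.mp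

include H in
/-- Products of two involutions. -/
theorem pair {u v : G} (hu : orderOf u = 2) (hv : orderOf v = 2) :
    (u * v) ^ 5 = 1 ∨ (u * v) ^ 3 = 1 ∨
      ∃ z : G, z * z = 1 ∧ z * u = u * z ∧ z * v = v * z ∧ ((u * v) ^ 2 = z ∨ (u * v) ^ 3 = z) := by
  have huu : u * u = 1 := by rw [← pow_two, ← hu, pow_orderOf_eq_one]
  have hvv : v * v = 1 := by rw [← pow_two, ← hv, pow_orderOf_eq_one]
  have hinv : (u * v)⁻¹ = v * u := by
    rw [mul_inv_rev, inv_eq_of_mul_eq_one_right huu, inv_eq_of_mul_eq_one_right hvv]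
  have hconj : u * (u * v) * u = (u * v)⁻¹ := by
    rw [hinv, show u * (u * v) * u = (u * u) * (v * u) by group, huu, one_mul]
  by_cases h2 : 2 ∣ orderOf (u * v)
  · obtain ⟨m, hm⟩ := h2
    set z := (u * v) ^ m with hzdef
    have hm0 : m ≠ 0 := fun e => (orderOf_pos (u * v)).ne' (by rw [hm, e, mul_zero])
    have hz2 : orderOf z = 2 := by
      rw [hzdef, orderOf_pow' _ hm0, hm, Nat.gcd_mul_left_left,
        Nat.mul_div_cancel _ (Nat.pos_of_ne_zero hm0)]
    have hzz : z * z = 1 := by rw [← pow_two, ← hz2, pow_orderOf_eq_one]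
    have hzi : z⁻¹ = z := inv_eq_of_mul_eq_one_right hzz
    have hui : u⁻¹ = u := inv_eq_of_mul_eq_one_right huu
    have hzu : z * u = u * z := by
      have e : u * z * u = z := by
        conv_rhs => rw [← hzi]
        rw [hzdef, ← inv_pow, ← hconj,
          show u * (u * v) * u = u * (u * v) * u⁻¹ by rw [hui], conj_pow, hui]
      calc z * u = u * z * u * u := by rw [e]
        _ = u * z := by rw [mul_assoc, huu, mul_one]
    have hzw : Commute z (u * v) := (Commute.refl (u * v)).pow_left m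
    have hzv : z * v = v * z := by
      have e : v = u * (u * v) := by rw [← mul_assoc, huu, one_mul]
      rw [e]
      exact (Commute.mul_right (show Commute z u from hzu) hzw).eq
    obtain ⟨g, hg⟩ := H.exists_to_t z hz2
    have hmem : ∀ w : G, z * w = w * z → g * w * g⁻¹ ∈ Subgroup.centralizer ({t} : Set G) := by
      intro w hw
      rw [Subgroup.mem_centralizer_singleton_iff, ← hg]
      calc g * w * g⁻¹ * (g * z * g⁻¹) = g * (w * z) * g⁻¹ := by group
        _ = g * (z * w) * g⁻¹ := by rw [hw]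
        _ = g * z * g⁻¹ * (g * w * g⁻¹) := by group
    set U : Subgroup.centralizer ({t} : Set G) := ⟨_, hmem u hzu⟩
    set V : Subgroup.centralizer ({t} : Set G) := ⟨_, hmem v hzv⟩
    have hU : U * U = 1 := Subtype.ext (by
      show g * u * g⁻¹ * (g * u * g⁻¹) = 1
      rw [show g * u * g⁻¹ * (g * u * g⁻¹) = g * (u * u) * g⁻¹ by group, huu]; group)
    have hV : V * V = 1 := Subtype.ext (by
      show g * v * g⁻¹ * (g * v * g⁻¹) = 1
      rw [show g * v * g⁻¹ * (g * v * g⁻¹) = g * (v * v) * g⁻¹ by group, hvv]; group)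
    have hord : orderOf (u * v) = orderOf (H.e U * H.e V) := by
      rw [← map_mul, MulEquiv.orderOf_eq, ← Subgroup.orderOf_coe]
      rw [show ((U * V : Subgroup.centralizer ({t} : Set G)) : G) = (MulAut.conj g).toMonoidHom (u * v) from
        by show g * u * g⁻¹ * (g * v * g⁻¹) = g * (u * v) * g⁻¹; group]
      exact (orderOf_injective _ (MulAut.conj g).injective _).symm
    have hw := model_pair (H.e U) (by rw [← map_mul, hU, map_one]) (H.e V) (by rw [← map_mul, hV, map_one])
    rw [← orderOf_dvd_iff_pow_eq_one, ← orderOf_dvd_iff_pow_eq_one, ← hord, hm] at hw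
    have hm' : m ∣ 2 ∨ m ∣ 3 := hw.imp (fun h => Nat.dvd_of_mul_dvd_mul_left (by norm_num : 0 < 2) h)
      (fun h => Nat.dvd_of_mul_dvd_mul_left (by norm_num : 0 < 2) h)
    have hcases : m = 1 ∨ m = 2 ∨ m = 3 := by
      rcases hm' with h | h
      · rcases (Nat.dvd_prime Nat.prime_two).mp h with e | e <;> omega
      · rcases (Nat.dvd_prime Nat.prime_three).mp h with e | e <;> omega
    rcases hcases with e | e | e
    · refine Or.inr (Or.inr ⟨1, one_mul 1, by rw [one_mul, mul_one], by rw [one_mul, mul_one],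
        Or.inl ?_⟩)
      rw [← pow_orderOf_eq_one (u * v), hm, e]
    · exact Or.inr (Or.inr ⟨z, hzz, hzu, hzv, Or.inl (by rw [hzdef, e])⟩)
    · exact Or.inr (Or.inr ⟨z, hzz, hzu, hzv, Or.inr (by rw [hzdef, e])⟩)
  · exact (H.odd_order_inverted hu hconj h2).imp_right Or.inl

end Hyp

end Cfsg.Agent.Lib.GLTwoThreeAmalgam
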