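import Mathlib
import Cfsg.Agent.Lib.GLTwoThreeAmalgam.Core
import Cfsg.Agent.Lib.GLTwoThreeAmalgam.Pair

/-!
The marking of the group by four involutions and the relations available for it.
-/

set_option autoImplicit false

namespace Cfsg.Agent.Lib.GLTwoThreeAmalgam

open Cfsg.Agent.Lib.InvCentralizer Cfsg.Agent.Lib.CosetTable

/-- Cancel repeated adjacent letters. -/
def reduceWord : List ℕ → List ℕ :=
  fun w => (w.foldl (fun st a => match st with
    | [] => [a]
    | b :: r => if b = a then r else a :: b :: r) []).reverse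

/-- The marking inside the model. -/
def mC : ℕ → GLThree
  | 0 => gS
  | 1 => gB
  | 2 => gC
  | _ => 1

/-- Representatives of the elements of order at most two of the model. -/
def centralWords : List (List ℕ) :=
  [[], [0], [1], [2], [0, 1, 0], [0, 2, 0], [1, 0, 1], [1, 2, 1], [0, 1, 0, 1], [0, 1, 0, 1, 2],
    [0, 1, 0, 2, 1], [0, 1, 2, 0, 1], [0, 1, 2, 1, 0], [0, 2, 1, 0, 1]]

/-- The word of the central involution. -/
def tWord : List ℕ := [0, 1, 0, 1]

theorem model_cover : ∀ m : GLThree, m * m = 1 → ∃ x ∈ centralWords, eval mC x = m := by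
  decide +kernel

theorem model_words :
    (∀ g, g < 3 → mC g * mC g = 1) ∧
      (∀ w ∈ baseRels, (∀ a ∈ w, a < 3) → eval mC w = 1) ∧
      eval mC tWord = negOne ∧ eval mC [0, 1, 0] = negOne * gB ∧ eval mC [1, 0, 1] = negOne * gS ∧
      gB * gS * gB = negOne * gS ∧ gB * gB = 1 := by
  refine ⟨?_, ?_, ?_⟩ <;> decide +kernel

universe u

variable {G : Type u} [Group G] [Finite G] {t : G}

theorem eval_reduceWord {f : ℕ → G} (hf : ∀ a, f a * f a = 1) (w : List ℕ) :
    eval f (reduceWord w) = eval f w := by
  have key : ∀ (v st : List ℕ), eval f ((v.foldl (fun st a => match st with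
      | [] => [a]
      | b :: r => if b = a then r else a :: b :: r) st).reverse) = eval f (st.reverse ++ v) := by
    intro v
    induction v with
    | nil => intro st; simp
    | cons a v ih =>
      intro st
      rw [List.foldl_cons, ih]
      cases st with
      | nil => simp
      | cons b r =>
        by_cases hba : b = a
        · subst hba
          simp only [if_true, List.reverse_cons, List.append_assoc, List.singleton_append,
            eval_append, eval]
          rw [mul_assoc (eval f v), hf b, mul_one]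
        · simp [hba]
  simpa [reduceWord] using key w []

namespace Hyp

variable (H : Hyp t)

/-- An element of the model inside the group. -/
def lift (m : GLThree) : G := ((H.e.symm m : Subgroup.centralizer ({t} : Set G)) : G)

theorem lift_mul (m n : GLThree) : H.lift (m * n) = H.lift m * H.lift n := by
  simp [lift, map_mul]

theorem lift_one : H.lift 1 = 1 := by simp [lift]

theorem lift_negOne : H.lift negOne = t := by
  rw [lift, ← H.e_t, MulEquiv.symm_apply_apply]

theorem lift_comm (m : GLThree) : H.lift m * t = t * H.lift m :=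
  Subgroup.mem_centralizer_singleton_iff.mp (H.e.symm m).2

theorem lift_e (z : G) (hz : z ∈ Subgroup.centralizer ({t} : Set G)) :
    H.lift (H.e ⟨z, hz⟩) = z := by
  simp [lift]

theorem orderOf_lift {m : GLThree} (h1 : m * m = 1) (h2 : m ≠ 1) : orderOf (H.lift m) = 2 := by
  rw [lift, Subgroup.orderOf_coe, MulEquiv.orderOf_eq, orderOf_eq_prime_iff, pow_two]
  exact ⟨h1, h2⟩

include H in
theorem exists_d : ∃ d : G, orderOf d = 2 ∧ d * H.lift gS = H.lift gS * d ∧
    d * t * d = t * H.lift gS ∧ (H.lift gB * d) ^ 3 = 1 ∧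
    d ∉ Subgroup.centralizer ({t} : Set G) := by
  obtain ⟨hs, hb, -, hz1, hs1, hsz, -, hzc⟩ := model_central
  obtain ⟨-, -, -, -, -, hbsb, -⟩ := model_words
  set s := H.lift gS with hsdef
  set b := H.lift gB with hbdef
  have hsord : orderOf s = 2 := H.orderOf_lift hs hs1
  have hss : s * s = 1 := by rw [hsdef, ← H.lift_mul, hs, H.lift_one]
  have hbb : b * b = 1 := by rw [hbdef, ← H.lift_mul, hb, H.lift_one]
  have hbi : b⁻¹ = b := inv_eq_of_mul_eq_one_right hbb
  obtain ⟨g, hg⟩ := H.exists_to_t s hsord
  have hu : g * t * g⁻¹ ∈ Subgroup.centralizer ({t} : Set G) := by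
    rw [Subgroup.mem_centralizer_singleton_iff]
    calc g * t * g⁻¹ * t = g * t * g⁻¹ * (g * s * g⁻¹) := by rw [hg]
      _ = g * (t * s) * g⁻¹ := by group
      _ = g * (s * t) * g⁻¹ := by rw [H.lift_comm gS]
      _ = g * s * g⁻¹ * (g * t * g⁻¹) := by group
      _ = t * (g * t * g⁻¹) := by rw [hg]
  set U : Subgroup.centralizer ({t} : Set G) := ⟨_, hu⟩ with hUdef
  have hUU : U * U = 1 := Subtype.ext (by
    show g * t * g⁻¹ * (g * t * g⁻¹) = 1
    rw [show g * t * g⁻¹ * (g * t * g⁻¹) = g * (t * t) * g⁻¹ by group, H.sq_t]; group)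
  have hne : s ≠ t := fun e => hsz (by
    have := congrArg (fun z => z) e
    have h' : H.lift gS = H.lift negOne := by rw [H.lift_negOne]; exact this
    exact H.e.symm.injective (Subtype.ext h'))
  obtain ⟨w, hw, hw1, hwc⟩ := model_swap (H.e U) (by rw [← map_mul, hUU, map_one])
    (fun e => H.ne_one (by
      have h' : g * t * g⁻¹ = 1 := congrArg Subtype.val ((map_eq_one_iff H.e H.e.injective).mp e)
      exact conj_eq_one_iff.mp h'))
    (fun e => hne (by
      have h' : g * t * g⁻¹ = t := congrArg Subtype.val (H.e.injective (e.trans H.e_t.symm))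
      have h'' : g * t * g⁻¹ = g * s * g⁻¹ := h'.trans hg.symm
      exact (mul_left_cancel (mul_right_cancel h'')).symm))
  set W := H.lift w with hWdef
  have hWU : W * (g * t * g⁻¹) * W = t * (g * t * g⁻¹) := by
    have h' := congrArg H.lift hwc
    rw [H.lift_mul, H.lift_mul, H.lift_mul, H.lift_negOne, hUdef, H.lift_e _ hu] at h'
    exact h'
  have hdo : orderOf (g⁻¹ * W * g) = 2 := by
    rw [show g⁻¹ * W * g = (MulAut.conj g⁻¹).toMonoidHom W by simp,
      orderOf_injective _ (MulAut.conj g⁻¹).injective]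
    exact H.orderOf_lift hw hw1
  set d := g⁻¹ * W * g with hddef
  have hdd : d * d = 1 := by rw [← pow_two, ← hdo, pow_orderOf_eq_one]
  have hts : g⁻¹ * t * g = s := by rw [← hg]; group
  have hds : d * s = s * d := by
    rw [hddef, ← hts]
    calc g⁻¹ * W * g * (g⁻¹ * t * g) = g⁻¹ * (W * t) * g := by group
      _ = g⁻¹ * (t * W) * g := by rw [H.lift_comm w]
      _ = _ := by group
  have hdt : d * t * d = t * s := by
    calc d * t * d = g⁻¹ * (W * (g * t * g⁻¹) * W) * g := by rw [hddef]; group
      _ = g⁻¹ * t * g * t := by rw [hWU]; group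
      _ = t * s := by rw [hts]; exact H.lift_comm gS
  refine ⟨d, hdo, hds, hdt, ?_, fun hmem => ?_⟩
  · -- the product with `b` permutes the three involutions cyclically
    have hbt : b * t = t * b := H.lift_comm gB
    have hbs : b * s * b = t * s := by
      rw [hbdef, hsdef, ← H.lift_mul, ← H.lift_mul, hbsb, H.lift_mul, H.lift_negOne]
    have hst : s * t = t * s := H.lift_comm gS
    set m := b * d with hmdef
    have hdi : d⁻¹ = d := inv_eq_of_mul_eq_one_right hdd
    have hm : m⁻¹ = d * b := by rw [hmdef, mul_inv_rev, hbi, hdi]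
    have h1 : m * t * m⁻¹ = s := by
      rw [hm, hmdef]
      calc b * d * t * (d * b) = b * (d * t * d) * b := by group
        _ = b * t * (s * b) := by rw [hdt]; group
        _ = t * (b * s * b) := by rw [hbt]; group
        _ = _ := by rw [hbs, ← mul_assoc, H.sq_t, one_mul]
    have h2 : m * s * m⁻¹ = t * s := by
      rw [hm, hmdef]
      calc b * d * s * (d * b) = b * (d * s * d) * b := by group
        _ = t * s := by rw [hds, mul_assoc s, hdd, mul_one, hbs]
    have h3 : m * (t * s) * m⁻¹ = t := by
      rw [show m * (t * s) * m⁻¹ = (m * t * m⁻¹) * (m * s * m⁻¹) by group, h1, h2, ← mul_assoc,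
        hst, mul_assoc, hss, mul_one]
    have e3 : m ^ 3 = m * m * m := by rw [pow_succ, pow_two]
    have hc1 : m ^ 3 * t * (m ^ 3)⁻¹ = t := by
      rw [e3, show m * m * m * t * (m * m * m)⁻¹ = m * (m * (m * t * m⁻¹) * m⁻¹) * m⁻¹ by group, h1, h2, h3]
    have hc2 : m ^ 3 * s * (m ^ 3)⁻¹ = s := by
      rw [e3, show m * m * m * s * (m * m * m)⁻¹ = m * (m * (m * s * m⁻¹) * m⁻¹) * m⁻¹ by group, h2, h3, h1]
    have hmem : m ^ 3 ∈ Subgroup.centralizer ({t} : Set G) := by
      rw [Subgroup.mem_centralizer_singleton_iff]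
      conv_rhs => rw [← hc1]
      group
    have hM : H.e ⟨m ^ 3, hmem⟩ * gS = gS * H.e ⟨m ^ 3, hmem⟩ := by
      apply H.e.symm.injective
      apply Subtype.ext
      show H.lift (H.e ⟨m ^ 3, hmem⟩ * gS) = H.lift (gS * H.e ⟨m ^ 3, hmem⟩)
      rw [H.lift_mul, H.lift_mul, H.lift_e _ hmem, ← hsdef]
      conv_rhs => rw [← hc2]
      group
    have hcomm : m * m ^ 3 * m⁻¹ = m ^ 3 := by group
    rcases model_centraliser_gS _ hM with e | e | e | e <;>
      have h' := congrArg H.lift e <;> rw [H.lift_e _ hmem] at h'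
    · rw [H.lift_one] at h'; exact h'
    · rw [H.lift_negOne] at h'; rw [h', h1] at hcomm; exact absurd hcomm hne
    · rw [← hsdef] at h'
      rw [h', h2] at hcomm
      exact absurd (mul_right_cancel (hcomm.trans (one_mul s).symm)) H.ne_one
    · rw [H.lift_mul, H.lift_negOne, ← hsdef] at h'
      rw [h', h3] at hcomm
      exact absurd (mul_left_cancel ((mul_one t).trans hcomm)).symm (fun e0 => by
        rw [e0, orderOf_one] at hsord; omega)
  · have e : t * s = t * 1 := by
      rw [← hdt, Subgroup.mem_centralizer_singleton_iff.mp hmem, mul_assoc, hdd]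
    rw [mul_left_cancel e, orderOf_one] at hsord
    omega

/-- The fourth involution. -/
noncomputable def d : G := H.exists_d.choose

/-- The marking. -/
noncomputable def mark : ℕ → G :=
  fun i => if i = 3 then H.d else H.lift (mC i)

theorem mark_lt {i : ℕ} (h : i < 3) : H.mark i = H.lift (mC i) := by
  rw [mark, if_neg (by omega)]

theorem eval_mark_lt : ∀ {w : List ℕ}, (∀ a ∈ w, a < 3) → eval H.mark w = H.lift (eval mC w)
  | [], _ => H.lift_one.symm
  | a :: w, h => by
    simp only [eval, lift_mul, eval_mark_lt (fun b hb => h b (List.mem_cons_of_mem _ hb)),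
      H.mark_lt (h a (by simp))]

theorem mark_sq (a : ℕ) : H.mark a * H.mark a = 1 := by
  by_cases h : a = 3
  · simp only [mark, h, if_true]
    have hd : orderOf H.d = 2 := H.exists_d.choose_spec.1
    rw [← pow_two, ← hd, pow_orderOf_eq_one]
  · rw [mark, if_neg h, ← H.lift_mul]
    by_cases h3 : a < 3
    · rw [model_words.1 a h3, H.lift_one]
    · rw [show mC a = 1 by unfold mC; split <;> first | omega | rfl, one_mul, H.lift_one]

theorem eval_baseRels : ∀ w ∈ baseRels, eval H.mark w = 1 := by
  intro w hw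
  by_cases h : ∀ a ∈ w, a < 3
  · rw [H.eval_mark_lt h, model_words.2.1 w hw h, H.lift_one]
  obtain ⟨hdo, hds, hdt, hbd, -⟩ : orderOf H.d = 2 ∧ H.d * H.lift gS = H.lift gS * H.d ∧
      H.d * t * H.d = t * H.lift gS ∧ (H.lift gB * H.d) ^ 3 = 1 ∧ _ := H.exists_d.choose_spec
  have h0 : H.mark 0 = H.lift gS := H.mark_lt (by norm_num)
  have h1 : H.mark 1 = H.lift gB := H.mark_lt (by norm_num)
  have h3 : H.mark 3 = H.d := if_pos rfl
  have hdd : H.d * H.d = 1 := by rw [← pow_two, ← hdo, pow_orderOf_eq_one]
  have hss : H.lift gS * H.lift gS = 1 := by rw [← h0]; exact H.mark_sq 0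
  simp only [baseRels, List.mem_cons, List.not_mem_nil, or_false] at hw
  rcases hw with rfl | rfl | rfl | rfl | rfl | rfl | rfl | rfl | rfl | rfl | rfl
  any_goals (exfalso; apply h; decide)
  · simp only [eval, one_mul, h3, hdd]
  · simp only [eval, one_mul, h0, h3]
    rw [show H.d * H.lift gS * H.d * H.lift gS = (H.d * H.lift gS) * (H.d * H.lift gS) by group,
      hds, show H.lift gS * H.d * (H.lift gS * H.d) = H.lift gS * (H.d * H.lift gS) * H.d by group,
      hds, show H.lift gS * (H.lift gS * H.d) * H.d = (H.lift gS * H.lift gS) * (H.d * H.d) by group,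
      hss, hdd, one_mul]
  · simp only [eval, one_mul, h1, h3]
    rw [show H.d * H.lift gB * H.d * H.lift gB * H.d * H.lift gB
      = (H.lift gB)⁻¹ * (H.lift gB * H.d * (H.lift gB * H.d) * (H.lift gB * H.d)) * H.lift gB by group,
      show H.lift gB * H.d * (H.lift gB * H.d) * (H.lift gB * H.d) = (H.lift gB * H.d) ^ 3 by
        rw [pow_succ, pow_two], hbd]
    group
  · -- d t d = t s
    have e : eval H.mark [3, 0, 1, 0, 1, 3, 1, 0, 1]
        = eval H.mark [1, 0, 1] * (H.d * eval H.mark tWord * H.d) := by
      simp only [eval, tWord, one_mul, h3, mul_assoc]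
    rw [e, H.eval_mark_lt (by decide), H.eval_mark_lt (by decide), model_words.2.2.1,
      model_words.2.2.2.2.1, H.lift_mul, H.lift_negOne, hdt,
      show t * H.lift gS * (t * H.lift gS) = t * (H.lift gS * t) * H.lift gS by group, H.lift_comm,
      show t * (t * H.lift gS) * H.lift gS = (t * t) * (H.lift gS * H.lift gS) by group, H.sq_t, hss,
      one_mul]

theorem mark_three_not_mem : H.mark 3 ∉ wordSubgroup H.mark subWords := by
  intro h
  have hle : wordSubgroup H.mark subWords ≤ Subgroup.centralizer ({t} : Set G) := by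
    rw [wordSubgroup, Subgroup.closure_le]
    rintro _ ⟨w, hw, rfl⟩
    have hw' : ∀ a ∈ w, a < 3 := (show ∀ w ∈ subWords, ∀ a ∈ w, a < 3 by decide) w hw
    rw [H.eval_mark_lt hw']
    exact (H.e.symm _).2
  have h' := hle h
  rw [show H.mark 3 = H.d from if_pos rfl] at h'
  exact H.exists_d.choose_spec.2.2.2.2 h'

theorem eval_pow (f : ℕ → G) (w : List ℕ) (k : ℕ) :
    eval f (List.replicate k w).flatten = eval f w ^ k := by
  induction k with
  | zero => simp [eval]
  | succ k ih => rw [List.replicate_succ, List.flatten_cons, eval_append, ih, pow_succ]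

/-- The relators that may hold for the product of `c` and `d`. -/
def cdAlt : List (List ℕ) :=
  [(List.replicate 4 [2, 3]).flatten, (List.replicate 6 [2, 3]).flatten,
    (List.replicate 5 [2, 3]).flatten]

/-- The relators that may hold for the product of `t` and the involution with word `v`. -/
def wordAlt (v : List ℕ) : List (List ℕ) :=
  let w := reduceWord (tWord ++ v)
  [(List.replicate 5 w).flatten, (List.replicate 3 w).flatten] ++
    centralWords.map (fun x => reduceWord ((List.replicate 2 w).flatten ++ x)) ++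
    (centralWords.drop 1).map (fun x => reduceWord ((List.replicate 3 w).flatten ++ x))

theorem alt_cd : ∃ r ∈ cdAlt, eval H.mark r = 1 := by
  have h2 : H.mark 2 = H.lift gC := H.mark_lt (by norm_num)
  have hc : orderOf (H.mark 2) = 2 := by
    rw [h2]
    exact H.orderOf_lift (by decide +kernel) (by decide +kernel)
  have hd : orderOf (H.mark 3) = 2 := by
    rw [show H.mark 3 = H.d from if_pos rfl]; exact H.exists_d.choose_spec.1
  have he : eval H.mark [2, 3] = H.mark 3 * H.mark 2 := by simp [eval]
  simp only [cdAlt, List.mem_cons, List.not_mem_nil, or_false, exists_eq_or_imp, exists_eq_left,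
    eval_pow, he]
  rcases H.pair hd hc with h | h | ⟨z, hz, -, -, h | h⟩
  · exact Or.inr (Or.inr h)
  · exact Or.inr (Or.inl (by rw [show 6 = 3 * 2 by norm_num, pow_mul, h, one_pow]))
  · exact Or.inl (by rw [show 4 = 2 * 2 by norm_num, pow_mul, h, pow_two, hz])
  · exact Or.inr (Or.inl (by rw [show 6 = 3 * 2 by norm_num, pow_mul, h, pow_two, hz]))

theorem alt_word {v : List ℕ} (hv : orderOf (eval H.mark v) = 2) :
    ∃ r ∈ wordAlt v, eval H.mark r = 1 := by
  set w := reduceWord (tWord ++ v) with hwdef
  have he : eval H.mark w = eval H.mark v * t := by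
    rw [hwdef, eval_reduceWord H.mark_sq, eval_append, H.eval_mark_lt (w := tWord) (by decide),
      model_words.2.2.1, H.lift_negOne]
  have hx : ∀ z : G, z * z = 1 → z * t = t * z → ∀ k : ℕ, eval H.mark w ^ k = z →
      ∃ x ∈ centralWords, eval H.mark (reduceWord ((List.replicate k w).flatten ++ x)) = 1 ∧
        (x = [] → z = 1) := by
    intro z hz hzt k hk
    have hmem : z ∈ Subgroup.centralizer ({t} : Set G) := Subgroup.mem_centralizer_singleton_iff.mpr hzt
    obtain ⟨x, hx, hxe⟩ := model_cover (H.e ⟨z, hmem⟩) (by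
      rw [← map_mul, ← map_one H.e]; exact congrArg H.e (Subtype.ext hz))
    have hev : eval H.mark x = z := by
      rw [H.eval_mark_lt ((show ∀ x ∈ centralWords, ∀ a ∈ x, a < 3 by decide) x hx), hxe, H.lift_e]
    refine ⟨x, hx, ?_, fun e => by rw [← hev, e]; rfl⟩
    rw [eval_reduceWord H.mark_sq, eval_append, eval_pow, hev, hk, hz]
  rcases H.pair hv H.ord with h | h | ⟨z, hz, -, hzt, h | h⟩
  · exact ⟨(List.replicate 5 w).flatten, by simp [wordAlt, hwdef], by rw [eval_pow, he, h]⟩
  · exact ⟨(List.replicate 3 w).flatten, by simp [wordAlt, hwdef], by rw [eval_pow, he, h]⟩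
  · obtain ⟨x, hx', hxe, -⟩ := hx z hz hzt 2 (by rw [he, h])
    exact ⟨_, List.mem_append_left _ (List.mem_append_right _ (List.mem_map.mpr ⟨x, hx', rfl⟩)), hxe⟩
  · obtain ⟨x, hx', hxe, hnil⟩ := hx z hz hzt 3 (by rw [he, h])
    by_cases hne : x = []
    · exact ⟨(List.replicate 3 w).flatten, by simp [wordAlt, hwdef], by
        rw [eval_pow, he, h, hnil hne]⟩
    · have hx'' : x ∈ centralWords.drop 1 := by
        simp only [centralWords, List.mem_cons] at hx'
        rcases hx' with e | hx'
        · exact absurd e hne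
        · simpa [centralWords] using hx'
      exact ⟨_, List.mem_append_right _ (List.mem_map.mpr ⟨x, hx'', rfl⟩), hxe⟩

/-- A palindromic word around the fourth involution gives an involution. -/
theorem orderOf_eval_palindrome {h : List ℕ} {a : ℕ} (ha : orderOf (H.mark a) = 2) :
    orderOf (eval H.mark (h ++ [a] ++ h.reverse)) = 2 := by
  have e : eval H.mark (h ++ [a] ++ h.reverse)
      = (MulAut.conj (eval H.mark h)⁻¹).toMonoidHom (H.mark a) := by
    simp [eval_append, eval, eval_reverse H.mark h (fun b _ => H.mark_sq b), mul_assoc]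
  rw [e, orderOf_injective _ (MulAut.conj (eval H.mark h)⁻¹).injective, ha]

end Hyp

end Cfsg.Agent.Lib.GLTwoThreeAmalgam
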